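import Cfsg.Agent.H358.IF.EvA

/-!
# S5719, cell `PSL four`, `q` even, `|A|` even (helper358)
-/

set_option autoImplicit false
set_option linter.unusedSectionVars false

namespace Cfsg.Agent.H358.IF

open Matrix Cfsg.Agent.H209.Fxy Module
open Cfsg.Agent.H232.IFR (LF)

section El

variable {F : Type} [Field F]

/-- `1 + a E_13 + b E_14` -/
def ee : Multiplicative (F × F) →* S4 F where
  toFun z := up (Multiplicative.ofAdd !![z.toAdd.1, z.toAdd.2; 0, 0])
  map_one' := by
    have : (!![(0 : F), 0; 0, 0] : M2 F) = 0 := by ext i j; fin_cases i <;> fin_cases j <;> rfl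
    show up (Multiplicative.ofAdd !![(0 : F), 0; 0, 0]) = 1
    rw [this]
    exact map_one up
  map_mul' z w := by
    rw [← map_mul]
    show up (Multiplicative.ofAdd !![z.toAdd.1 + w.toAdd.1, z.toAdd.2 + w.toAdd.2; 0, 0]) = up (Multiplicative.ofAdd
      (!![z.toAdd.1, z.toAdd.2; 0, 0] + !![w.toAdd.1, w.toAdd.2; 0, 0]))
    congr 2
    ext i j
    fin_cases i <;> fin_cases j <;> simp

theorem ee_val (a b : F) : (ee (Multiplicative.ofAdd (a, b))).val = fromBlocks 1 !![a, b; 0, 0] 0 1 := rfl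

/-- `1 + x E_34 + y E_32` -/
def rr : Multiplicative (F × F) →* S4 F where
  toFun z := ⟨fromBlocks 1 0 !![0, z.toAdd.2; 0, 0] !![1, z.toAdd.1; 0, 1], by
    rw [det_fromBlocks_zero₁₂, det_one, one_mul, det_fin_two_of]
    ring⟩
  map_one' := by
    apply Subtype.ext
    show fromBlocks 1 0 !![(0 : F), 0; 0, 0] !![1, 0; 0, 1] = 1
    have h1 : (!![(0 : F), 0; 0, 0] : M2 F) = 0 := by ext i j; fin_cases i <;> fin_cases j <;> rfl
    rw [h1, ← Matrix.one_fin_two, fromBlocks_one]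
  map_mul' z w := by
    apply Subtype.ext
    show fromBlocks 1 0 !![0, z.toAdd.2 + w.toAdd.2; 0, 0] !![1, z.toAdd.1 + w.toAdd.1; 0, 1] =
      fromBlocks 1 0 !![0, z.toAdd.2; 0, 0] !![1, z.toAdd.1; 0, 1] *
      fromBlocks 1 0 !![0, w.toAdd.2; 0, 0] !![1, w.toAdd.1; 0, 1]
    rw [fromBlocks_multiply]
    congr 1
    · simp
    · simp
    · ext i j
      fin_cases i <;> fin_cases j <;> simp [Matrix.mul_apply, Fin.sum_univ_two]
    · ext i j
      fin_cases i <;> fin_cases j <;> simp [Matrix.mul_apply, Fin.sum_univ_two, add_comm]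

theorem rr_val (x y : F) : (rr (Multiplicative.ofAdd (x, y))).val = fromBlocks 1 0 !![0, y; 0, 0] !![1, x; 0, 1] := rfl

theorem x1_val : (x1 : S4 F).val = fromBlocks !![1, 1; 0, 1] 0 0 1 := by
  show Matrix.transvection (Sum.inl 0 : I4) (Sum.inl 1) (1 : F) = _
  ext i j
  rcases i with i | i <;> rcases j with j | j <;> fin_cases i <;> fin_cases j <;>
    simp [Matrix.transvection, Matrix.one_apply, Matrix.single_apply]

theorem ee_inj : Function.Injective (ee : Multiplicative (F × F) →* S4 F) := by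
  intro z w h
  have h1 := congrArg Subtype.val h
  have h2 : ∀ z : Multiplicative (F × F), (ee z).val = fromBlocks 1 !![z.toAdd.1, z.toAdd.2; 0, 0] 0 1 := fun _ => rfl
  rw [h2, h2, fromBlocks_inj] at h1
  have h3 := congrFun (congrFun h1.2.1 0) 0
  have h4 := congrFun (congrFun h1.2.1 0) 1
  exact Prod.ext h3 h4

theorem rr_inj : Function.Injective (rr : Multiplicative (F × F) →* S4 F) := by
  intro z w h
  have h1 := congrArg Subtype.val h
  have h2 : ∀ z : Multiplicative (F × F), (rr z).val = fromBlocks 1 0 !![0, z.toAdd.2; 0, 0] !![1, z.toAdd.1; 0, 1] :=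
    fun _ => rfl
  rw [h2, h2, fromBlocks_inj] at h1
  have h3 := congrFun (congrFun h1.2.2.1 0) 1
  have h4 := congrFun (congrFun h1.2.2.2 0) 1
  exact Prod.ext h4 h3

theorem ee_x1 (z : Multiplicative (F × F)) : ee z * x1 = x1 * ee z := by
  apply Subtype.ext
  show (ee z).val * x1.val = x1.val * (ee z).val
  rw [x1_val, show (ee z).val = fromBlocks 1 !![z.toAdd.1, z.toAdd.2; 0, 0] 0 1 from rfl, fromBlocks_multiply,
    fromBlocks_multiply]
  congr 1
  · simp
  · ext i j
    fin_cases i <;> fin_cases j <;> simp [Matrix.mul_apply, Fin.sum_univ_two]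
  · simp
  · simp

theorem rr_x1 (z : Multiplicative (F × F)) : rr z * x1 = x1 * rr z := by
  apply Subtype.ext
  show (rr z).val * x1.val = x1.val * (rr z).val
  rw [x1_val, show (rr z).val = fromBlocks 1 0 !![0, z.toAdd.2; 0, 0] !![1, z.toAdd.1; 0, 1] from rfl, fromBlocks_multiply,
    fromBlocks_multiply]
  congr 1
  · simp
  · simp
  · ext i j
    fin_cases i <;> fin_cases j <;> simp [Matrix.mul_apply, Fin.sum_univ_two]
  · simp

theorem blk_x1 (b : S2 F) : blk (1, b) * x1 = x1 * blk (1, b) := by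
  apply Subtype.ext
  show (blk (1, b)).val * x1.val = x1.val * (blk (1, b)).val
  rw [x1_val, blk_val, fromBlocks_multiply, fromBlocks_multiply]
  simp

theorem rr_ee {a b x y : F} (ha : a ≠ 0)
    (h : rr (Multiplicative.ofAdd (x, y)) * ee (Multiplicative.ofAdd (a, b)) =
      ee (Multiplicative.ofAdd (a, b)) * rr (Multiplicative.ofAdd (x, y))) : x = 0 ∧ y = 0 := by
  have h1 : (rr (Multiplicative.ofAdd (x, y))).val * (ee (Multiplicative.ofAdd (a, b))).val =
      (ee (Multiplicative.ofAdd (a, b))).val * (rr (Multiplicative.ofAdd (x, y))).val := congrArg Subtype.val h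
  rw [rr_val, ee_val, fromBlocks_multiply, fromBlocks_multiply, fromBlocks_inj] at h1
  have h3 := congrFun (congrFun h1.1 0) 1
  have h4 := congrFun (congrFun h1.2.1 0) 1
  simp [Matrix.mul_apply, Fin.sum_univ_two] at h3 h4
  exact ⟨h4.resolve_left ha, h3.resolve_left ha⟩

theorem ee_act (a b : F) (v : I4 → F) : (ee (Multiplicative.ofAdd (a, b))).val *ᵥ v =
    v + (a • (LinearMap.proj (Sum.inr 0) : (I4 → F) →ₗ[F] F) + b • (LinearMap.proj (Sum.inr 1) : (I4 → F) →ₗ[F] F)) v •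
      (Pi.single (Sum.inl 0) 1 : I4 → F) := by
  rw [ee_val]
  ext i
  rcases i with i | i <;> fin_cases i <;>
    simp [Matrix.mulVec, dotProduct, Fin.sum_univ_two]

theorem x1_act (v : I4 → F) : (x1 : S4 F).val *ᵥ v =
    v + (LinearMap.proj (Sum.inl 1) : (I4 → F) →ₗ[F] F) v • (Pi.single (Sum.inl 0) 1 : I4 → F) := by
  rw [x1_val]
  ext i
  rcases i with i | i <;> fin_cases i <;>
    simp [Matrix.mulVec, dotProduct, Fin.sum_univ_two]

theorem single_ne : (Pi.single (Sum.inl 0) 1 : I4 → F) ≠ 0 := by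
  intro h
  have := congrFun h (Sum.inl 0)
  simp at this

theorem x1_ne : (x1 : S4 F) ≠ 1 := by
  intro h
  have h1 := congrFun (congrFun (congrArg Subtype.val h) (Sum.inl 0)) (Sum.inl 1)
  rw [x1_val] at h1
  simp at h1

theorem x1_sq (h2 : (2 : F) = 0) : (x1 : S4 F) * x1 = 1 := by
  apply Subtype.ext
  show (x1 : S4 F).val * x1.val = 1
  rw [x1_val, fromBlocks_multiply, ← fromBlocks_one]
  congr 1
  · have h3 : (1 : F) + 1 = 0 := by linear_combination h2
    ext i j
    fin_cases i <;> fin_cases j <;> simp [Matrix.mul_apply, Fin.sum_univ_two, h3]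
  · simp
  · simp
  · simp

theorem ee_sq (h2 : (2 : F) = 0) (z : Multiplicative (F × F)) : ee z * ee z = 1 := by
  rw [← map_mul]
  have h3 : z * z = 1 := by
    apply Prod.ext
    · show z.toAdd.1 + z.toAdd.1 = 0
      linear_combination z.toAdd.1 * h2
    · show z.toAdd.2 + z.toAdd.2 = 0
      linear_combination z.toAdd.2 * h2
  rw [h3, map_one]

theorem ee_ne_x1 (z : Multiplicative (F × F)) : ee z ≠ x1 := by
  intro h
  have h1 := congrFun (congrFun (congrArg Subtype.val h) (Sum.inl 0)) (Sum.inl 1)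
  rw [x1_val, show (ee z).val = fromBlocks 1 !![z.toAdd.1, z.toAdd.2; 0, 0] 0 1 from rfl] at h1
  simp at h1

end El

section Num

theorem num_f {q f I : ℕ} (hq : 2 ≤ q) (h1 : f ^ 5 < I) (h2 : I * (q - 1) ≤ (q ^ 4 - 1) * (q ^ 3 - 1)) : f < q ^ 2 := by
  by_contra hcon
  push Not at hcon
  have h3 : (q ^ 2) ^ 5 ≤ f ^ 5 := Nat.pow_le_pow_left hcon 5
  have h4 : I * 1 ≤ I * (q - 1) := Nat.mul_le_mul_left _ (by omega)
  have h5 : (q ^ 4 - 1) * (q ^ 3 - 1) ≤ q ^ 4 * q ^ 3 := Nat.mul_le_mul (Nat.sub_le _ _) (Nat.sub_le _ _)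
  have h6 : q ^ 4 * q ^ 3 ≤ (q ^ 2) ^ 5 := by
    rw [← pow_add, ← pow_mul]
    exact Nat.pow_le_pow_right (by omega) (by norm_num)
  omega

theorem num_g {q f I : ℕ} (hq : 2 ≤ q) (h1 : f ^ 4 * q ^ 2 < I) (h2 : I * (q - 1) ≤ (q ^ 4 - 1) * (q ^ 3 - 1)) :
    f < q + 1 := by
  by_contra hcon
  push Not at hcon
  have h3 : (q + 1) ^ 4 * q ^ 2 < I := (Nat.mul_le_mul_right _ (Nat.pow_le_pow_left hcon 4)).trans_lt h1
  obtain ⟨r, rfl⟩ : ∃ r, q = r + 1 := ⟨q - 1, by omega⟩
  rw [Nat.add_sub_cancel] at h2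
  have e1 : (r + 1) ^ 4 - 1 = r * (r ^ 3 + 4 * r ^ 2 + 6 * r + 4) := by
    have : (r + 1) ^ 4 = r * (r ^ 3 + 4 * r ^ 2 + 6 * r + 4) + 1 := by ring
    omega
  have e2 : (r + 1) ^ 3 - 1 = r * (r ^ 2 + 3 * r + 3) := by
    have : (r + 1) ^ 3 = r * (r ^ 2 + 3 * r + 3) + 1 := by ring
    omega
  rw [e1, e2] at h2
  have h4 : (r + 1 + 1) ^ 4 * (r + 1) ^ 2 * r < I * r := Nat.mul_lt_mul_of_pos_right h3 (by omega)
  have h5 : r * (r ^ 3 + 4 * r ^ 2 + 6 * r + 4) * (r * (r ^ 2 + 3 * r + 3)) ≤ (r + 1 + 1) ^ 4 * (r + 1) ^ 2 * r := by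
    have e3 : (r + 1 + 1) ^ 4 * (r + 1) ^ 2 * r = r * (r ^ 3 + 4 * r ^ 2 + 6 * r + 4) * (r * (r ^ 2 + 3 * r + 3)) +
        r * (3 * r ^ 5 + 20 * r ^ 4 + 54 * r ^ 3 + 74 * r ^ 2 + 52 * r + 16) := by ring
    rw [e3]
    exact Nat.le_add_right _ _
  omega

theorem num_n {n I : ℕ} (hn : 729 < n) (h1 : n ^ 5 < I ^ 6) (h2 : I * (2 - 1) ≤ (2 ^ 4 - 1) * (2 ^ 3 - 1)) : False := by
  norm_num at h2
  have h3 : I ^ 6 ≤ 105 ^ 6 := Nat.pow_le_pow_left h2 6
  have h4 : 729 ^ 5 ≤ n ^ 5 := Nat.pow_le_pow_left hn.le 5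
  have h5 : 105 ^ 6 < 729 ^ 5 := by norm_num
  omega

end Num

section Fin

variable {F : Type} [Field F] [Fintype F] {A : Subgroup (P4 F)}

theorem even_card (h2 : (2 : F) = 0) : Even (Fintype.card F) := by
  by_contra hcon
  rw [Nat.not_even_iff_odd] at hcon
  exact (ClassicalGeometry.PSL2Basic.two_ne_zero_iff_odd (F := F)).2 hcon h2

theorem e2 (h2 : (2 : F) = 0) (h : IFA A) {t : S4 F} (ht : t ∈ At A) (ht1 : t ≠ 1) (htt : t * t = 1) :
    (∀ B : Subgroup (S4 F), (∀ b ∈ B, b * t = t * b) → (At A).relIndex B ^ 5 < (Subgroup.centralizer {t}).index) ∧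
      (At A).index ^ 5 < (Subgroup.centralizer {t}).index ^ 6 := by
  obtain ⟨Γ, h⟩ := h
  have : IsSimpleGroup (P4 F) := LieClassical.SLGen.psl_isSimpleGroup (by simp)
  have hk := ker_pr h2
  have h5 : (Subgroup.centralizer {t}).index = (Subgroup.centralizer ({pr t} : Set (P4 F))).index := by
    rw [← H232.IFR.comap_centralizer pr hk htt, Subgroup.index_comap_of_surjective _ pr_surj]
  obtain ⟨-, -, -, h6, -⟩ := H999.IFB.IF.E2' h (exists_nc (by simp)) (t := pr t) ht (H232.IFR.orderOf_image pr hk htt ht1)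
  have hlf : LF (At A) := H232.IFR.lf_of pr pr_surj hk (exists_nc (by simp)) h
  refine ⟨fun B hB => hlf.e2 t ht ht1 htt B fun b hb => Subgroup.mem_centralizer_singleton_iff.2 (hB b hb), ?_⟩
  rw [h5, index_At]
  exact h6

theorem idx_x1 (h2 : (2 : F) = 0) : (Subgroup.centralizer {(x1 : S4 F)}).index * (Fintype.card F - 1) ≤
    (Fintype.card F ^ 4 - 1) * (Fintype.card F ^ 3 - 1) := by
  refine idx_tr h2 x1_act (x1_sq h2) ?_ single_ne
  intro h3
  have := LinearMap.congr_fun h3 (Pi.single (Sum.inl 1) 1)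
  simp at this

theorem idx_ee (h2 : (2 : F) = 0) {a b : F} (ha : a ≠ 0) :
    (Subgroup.centralizer {ee (Multiplicative.ofAdd (a, b))}).index * (Fintype.card F - 1) ≤
    (Fintype.card F ^ 4 - 1) * (Fintype.card F ^ 3 - 1) := by
  refine idx_tr h2 (ee_act a b) (ee_sq h2 _) ?_ single_ne
  intro h3
  have := LinearMap.congr_fun h3 (Pi.single (Sum.inr 0) 1)
  simp at this
  exact ha this

theorem four_le (h2 : (2 : F) = 0) (h : IFA A) (ht : x1 ∈ At A) : 4 ≤ Fintype.card F := by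
  have h3 := (e2 h2 h ht x1_ne (x1_sq h2)).2
  have h4 := idx_x1 (F := F) h2
  have h5 : 1 < Fintype.card F := Fintype.one_lt_card
  obtain ⟨r, hr⟩ := even_card h2
  by_contra hcon
  have h6 : Fintype.card F = 2 := by omega
  rw [h6] at h4
  exact num_n h.big h3 h4

/-- **Two commuting transvections of `A` with the same centre.** -/
theorem C0 (h2 : (2 : F) = 0) (h : IFA A) (ht : x1 ∈ At A) {a b : F} (ha : a ≠ 0)
    (hs : ee (Multiplicative.ofAdd (a, b)) ∈ At A) (c : S2 F) : blk (1, c) ∈ At A := by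
  have h4 := four_le h2 h ht
  have h5 := key4 h2 h hs ht (by
    intro h6
    have h7 := ee_inj (h6.trans (map_one ee).symm)
    exact ha (congrArg Prod.fst h7)) x1_ne (ee_sq h2 _) (x1_sq h2) (ee_ne_x1 _) (ee_x1 _)
    (B := (blk.comp (MonoidHom.inr (S2 F) (S2 F))).range) (R := rr.range) (by
      rintro _ ⟨b, rfl⟩
      exact blk_x1 b) (by
      rintro _ ⟨z, rfl⟩
      exact rr_x1 z) (by
      rintro _ ⟨z, rfl⟩ h6
      obtain ⟨h7, h8⟩ := rr_ee (x := z.toAdd.1) (y := z.toAdd.2) ha h6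
      have h9 : z = 1 := Prod.ext h7 h8
      rw [h9, map_one])
  have h6 : Nat.card (rr : Multiplicative (F × F) →* S4 F).range = Fintype.card F ^ 2 := by
    have h7 : Nat.card (rr : Multiplicative (F × F) →* S4 F).range = Nat.card (Multiplicative (F × F)) :=
      Nat.card_range_of_injective rr_inj
    rw [h7]
    show Nat.card (F × F) = _
    rw [Nat.card_prod, Nat.card_eq_fintype_card, pow_two]
  rw [h6] at h5
  have h7 := num_g (by omega) h5 (idx_ee h2 ha)
  rw [← Subgroup.index_comap] at h7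
  have h8 : ((At A).comap (blk.comp (MonoidHom.inr (S2 F) (S2 F))) : Subgroup (S2 F)) = ⊤ := by
    by_contra hne
    have := H411.L4.mi_even h4 (even_card h2) _ hne
    omega
  have h9 : c ∈ ((At A).comap (blk.comp (MonoidHom.inr (S2 F) (S2 F))) : Subgroup (S2 F)) := by
    rw [h8]; trivial
  exact h9

theorem exists_s (h2 : (2 : F) = 0) (h : IFA A) (ht : x1 ∈ At A) :
    ∃ a b : F, (a ≠ 0 ∨ b ≠ 0) ∧ ee (Multiplicative.ofAdd (a, b)) ∈ At A := by
  have h4 := four_le h2 h ht
  have h5 := (e2 h2 h ht x1_ne (x1_sq h2)).1 (ee : Multiplicative (F × F) →* S4 F).range (by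
    rintro _ ⟨z, rfl⟩
    exact ee_x1 z)
  have h6 := num_f (by omega) h5 (idx_x1 h2)
  have h7 : Nat.card (ee : Multiplicative (F × F) →* S4 F).range = Fintype.card F ^ 2 := by
    have h7 : Nat.card (ee : Multiplicative (F × F) →* S4 F).range = Nat.card (Multiplicative (F × F)) :=
      Nat.card_range_of_injective ee_inj
    rw [h7]
    show Nat.card (F × F) = _
    rw [Nat.card_prod, Nat.card_eq_fintype_card, pow_two]
  rw [← h7] at h6
  obtain ⟨_, ⟨z, rfl⟩, h8, h9⟩ := exists_ne_one h6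
  refine ⟨z.toAdd.1, z.toAdd.2, ?_, h8⟩
  by_contra hcon
  push Not at hcon
  apply h9
  have h10 : z = 1 := Prod.ext hcon.1 hcon.2
  rw [h10, map_one]

theorem tv_blk (x : F) (h : (Sum.inr 0 : I4) ≠ Sum.inr 1) :
    (SpecialLinearGroup.transvection h x : S4 F) = blk (1, SpecialLinearGroup.transvection (zero_ne_one) x) := by
  apply Subtype.ext
  rw [blk_val]
  show Matrix.transvection (Sum.inr 0 : I4) (Sum.inr 1) x = fromBlocks 1 0 0 (Matrix.transvection 0 1 x)
  ext i j
  rcases i with i | i <;> rcases j with j | j <;> fin_cases i <;> fin_cases j <;>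
    simp [Matrix.transvection, Matrix.one_apply, Matrix.single_apply]

theorem tv_blk' (x : F) (h : (Sum.inr 1 : I4) ≠ Sum.inr 0) :
    (SpecialLinearGroup.transvection h x : S4 F) = blk (1, SpecialLinearGroup.transvection (one_ne_zero) x) := by
  apply Subtype.ext
  rw [blk_val]
  show Matrix.transvection (Sum.inr 1 : I4) (Sum.inr 0) x = fromBlocks 1 0 0 (Matrix.transvection 1 0 x)
  ext i j
  rcases i with i | i <;> rcases j with j | j <;> fin_cases i <;> fin_cases j <;>
    simp [Matrix.transvection, Matrix.one_apply, Matrix.single_apply]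

theorem tv_ee (x : F) (h : (Sum.inl 0 : I4) ≠ Sum.inr 0) :
    (SpecialLinearGroup.transvection h x : S4 F) = ee (Multiplicative.ofAdd (x, 0)) := by
  apply Subtype.ext
  rw [ee_val]
  show Matrix.transvection (Sum.inl 0 : I4) (Sum.inr 0) x = _
  ext i j
  rcases i with i | i <;> rcases j with j | j <;> fin_cases i <;> fin_cases j <;>
    simp [Matrix.transvection, Matrix.one_apply, Matrix.single_apply]

theorem tv_ee' (x : F) (h : (Sum.inl 0 : I4) ≠ Sum.inr 1) :
    (SpecialLinearGroup.transvection h x : S4 F) = ee (Multiplicative.ofAdd (0, x)) := by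
  apply Subtype.ext
  rw [ee_val]
  show Matrix.transvection (Sum.inl 0 : I4) (Sum.inr 1) x = _
  ext i j
  rcases i with i | i <;> rcases j with j | j <;> fin_cases i <;> fin_cases j <;>
    simp [Matrix.transvection, Matrix.one_apply, Matrix.single_apply]

/-- the standard form of `C0` -/
theorem C0' (h2 : (2 : F) = 0) (h : IFA A) (ht : x1 ∈ At A) {a b : F} (ha : a ≠ 0)
    (hs : ee (Multiplicative.ofAdd (a, b)) ∈ At A) : Rt A (Sum.inr 0) (Sum.inr 1) ∧ Rt A (Sum.inr 1) (Sum.inr 0) := by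
  have h3 := C0 h2 h ht ha hs
  constructor
  · intro hij x
    rw [tv_blk]
    exact h3 _
  · intro hij x
    rw [tv_blk']
    exact h3 _

theorem exists_perm {i l j k : I4} (hil : i ≠ l) (hij : i ≠ j) (hik : i ≠ k) (hlj : l ≠ j) (hlk : l ≠ k) (hjk : j ≠ k) :
    ∃ π : Equiv.Perm I4, π i = Sum.inl 0 ∧ π l = Sum.inl 1 ∧ π j = Sum.inr 0 ∧ π k = Sum.inr 1 := by
  let f : I4 → I4 := Sum.elim ![i, l] ![j, k]
  have hf : Function.Injective f := by
    rintro (x | x) (y | y) hxy <;> fin_cases x <;> fin_cases y <;> simp [f] at hxy ⊢ <;>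
      first | exact hil hxy | exact hil hxy.symm | exact hij hxy | exact hij hxy.symm | exact hik hxy | exact hik hxy.symm |
        exact hlj hxy | exact hlj hxy.symm | exact hlk hxy | exact hlk hxy.symm | exact hjk hxy | exact hjk hxy.symm
  let e : Equiv.Perm I4 := Equiv.ofBijective f (Finite.injective_iff_bijective.1 hf)
  refine ⟨e.symm, ?_, ?_, ?_, ?_⟩
  · rw [Equiv.symm_apply_eq]; rfl
  · rw [Equiv.symm_apply_eq]; rfl
  · rw [Equiv.symm_apply_eq]; rfl
  · rw [Equiv.symm_apply_eq]; rfl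

theorem tv_mem {π : Equiv.Perm I4} {i j i' j' : I4} (hi : π i = i') (hj : π j = j') (hij : i ≠ j) (hij' : i' ≠ j') {a : F}
    (h : SpecialLinearGroup.transvection hij a ∈ At A) :
    SpecialLinearGroup.transvection hij' a ∈ At (cA (H411.L4.pm π) A) := by
  subst hi hj
  rw [← mem_cA (g := H411.L4.pm π), H411.L4.cS_pm_transvection] at h
  exact h

/-- **Two transvections of `A` with the same centre**, all positions. -/
theorem C1 (h2 : (2 : F) = 0) (h : IFA A) {i l j k : I4} (hil : i ≠ l) (hij : i ≠ j) (hik : i ≠ k) (hlj : l ≠ j)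
    (hlk : l ≠ k) (hjk : j ≠ k) (ht : Rt A i l) (hs : Rt A i j) : Rt A j k ∧ Rt A k j := by
  obtain ⟨π, h3, h4, h5, h6⟩ := exists_perm hil hij hik hlj hlk hjk
  have h7 := tv_mem h3 h4 hil (show (Sum.inl 0 : I4) ≠ Sum.inl 1 by decide) (ht hil 1)
  have h8 := tv_mem h3 h5 hij (show (Sum.inl 0 : I4) ≠ Sum.inr 0 by decide) (hs hij 1)
  rw [tv_ee] at h8
  obtain ⟨h9, h10⟩ := C0' h2 (h.conj (H411.L4.pm π)) h7 one_ne_zero h8
  rw [← h5, ← h6] at h9 h10
  exact ⟨(H411.L4.Rt_pm π).1 h9, (H411.L4.Rt_pm π).1 h10⟩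

/-- all root groups, once the first centre is complete -/
theorem all_of (h2 : (2 : F) = 0) (h : IFA A) {i l j k : I4} (hil : i ≠ l) (hij : i ≠ j) (hik : i ≠ k) (hlj : l ≠ j)
    (hlk : l ≠ k) (hjk : j ≠ k) (il : Rt A i l) (ij : Rt A i j) (ik : Rt A i k) : False := by
  obtain ⟨jk, kj⟩ := C1 h2 h hil hij hik hlj hlk hjk il ij
  obtain ⟨lk, kl⟩ := C1 h2 h hij hil hik hlj.symm hjk hlk ij il
  obtain ⟨lj, jl⟩ := C1 h2 h hik hil hij hlk.symm hjk.symm hlj ik il
  obtain ⟨li, -⟩ := C1 h2 h hjk hlj.symm hij.symm hlk.symm hik.symm hil.symm jk jl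
  have ji := jl.trans li hlj.symm hil.symm
  have ki := kl.trans li hlk.symm hil.symm
  have hall : ∀ x : I4, x = i ∨ x = l ∨ x = j ∨ x = k := by
    intro x
    by_contra hcon
    push Not at hcon
    have h3 : ({x, i, l, j, k} : Finset I4).card ≤ Fintype.card I4 := Finset.card_le_univ _
    rw [Finset.card_insert_of_notMem (by simp [hcon.1, hcon.2.1, hcon.2.2.1, hcon.2.2.2]),
      Finset.card_insert_of_notMem (by simp [hil, hij, hik]), Finset.card_insert_of_notMem (by simp [hlj, hlk]),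
      Finset.card_insert_of_notMem (by simp [hjk]), Finset.card_singleton] at h3
    simp at h3
  haveI : Nontrivial I4 := ⟨⟨Sum.inl 0, Sum.inl 1, by decide⟩⟩
  refine h.not_all fun x y hxy => ?_
  rcases hall x with rfl | rfl | rfl | rfl <;> rcases hall y with rfl | rfl | rfl | rfl <;>
    first | exact absurd rfl hxy | assumption

/-- the first centre -/
theorem first (h2 : (2 : F) = 0) (h : IFA A) (ht : x1 ∈ At A) {a b : F} (ha : a ≠ 0)
    (hs : ee (Multiplicative.ofAdd (a, b)) ∈ At A) : False := by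
  obtain ⟨jk, kj⟩ := C0' h2 h ht ha hs
  have ik : Rt A (Sum.inl 0) (Sum.inr 1) := by
    intro hik x
    have h3 := jk (by decide) (a⁻¹ * x)
    have h4 := mul_mem (mul_mem (mul_mem hs h3) (inv_mem hs)) (inv_mem h3)
    have h5 : ee (Multiplicative.ofAdd (a, b)) * SpecialLinearGroup.transvection (by decide : (Sum.inr 0 : I4) ≠ Sum.inr 1)
        (a⁻¹ * x) = SpecialLinearGroup.transvection hik x * (SpecialLinearGroup.transvection
          (by decide : (Sum.inr 0 : I4) ≠ Sum.inr 1) (a⁻¹ * x) * ee (Multiplicative.ofAdd (a, b))) := by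
      rw [tv_ee', tv_blk]
      apply Subtype.ext
      show (ee (Multiplicative.ofAdd (a, b))).val * (blk (1, SpecialLinearGroup.transvection zero_ne_one (a⁻¹ * x))).val =
        (ee (Multiplicative.ofAdd (0, x))).val * ((blk (1, SpecialLinearGroup.transvection zero_ne_one (a⁻¹ * x))).val *
        (ee (Multiplicative.ofAdd (a, b))).val)
      rw [ee_val, ee_val, blk_val, fromBlocks_multiply, fromBlocks_multiply, fromBlocks_multiply]
      have e1 : (SpecialLinearGroup.transvection (zero_ne_one : (0 : Fin 2) ≠ 1) (a⁻¹ * x)).val = !![1, a⁻¹ * x; 0, 1] := by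
        show Matrix.transvection 0 1 (a⁻¹ * x) = _
        ext i j
        fin_cases i <;> fin_cases j <;> simp [Matrix.transvection]
      rw [e1]
      congr 1
      · simp
      · ext i j
        fin_cases i <;> fin_cases j <;> simp [Matrix.mul_apply, Fin.sum_univ_two]
        field_simp
        ring
      · simp
      · simp
    have h6 : ee (Multiplicative.ofAdd (a, b)) * SpecialLinearGroup.transvection (by decide : (Sum.inr 0 : I4) ≠ Sum.inr 1)
        (a⁻¹ * x) * (ee (Multiplicative.ofAdd (a, b)))⁻¹ * (SpecialLinearGroup.transvection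
          (by decide : (Sum.inr 0 : I4) ≠ Sum.inr 1) (a⁻¹ * x))⁻¹ = SpecialLinearGroup.transvection hik x := by
      rw [h5]
      group
    rw [← h6]
    exact h4
  have ij : Rt A (Sum.inl 0) (Sum.inr 0) := ik.trans kj (by decide) (by decide)
  have ht' : SpecialLinearGroup.transvection (show (Sum.inl 0 : I4) ≠ Sum.inl 1 by decide) (1 : F) ∈ At A := ht
  -- centre `i`, axes `j`, `k`
  obtain ⟨lk, kl⟩ : Rt A (Sum.inl 1) (Sum.inr 1) ∧ Rt A (Sum.inr 1) (Sum.inl 1) := by
    obtain ⟨π, h3, h4, h5, h6⟩ := exists_perm (i := Sum.inl 0) (l := Sum.inr 0) (j := Sum.inl 1) (k := Sum.inr 1)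
      (by decide) (by decide) (by decide) (by decide) (by decide) (by decide)
    have h7 := tv_mem h3 h4 (by decide) (show (Sum.inl 0 : I4) ≠ Sum.inl 1 by decide) (ij (by decide) 1)
    have h8 := tv_mem h3 h5 (by decide) (show (Sum.inl 0 : I4) ≠ Sum.inr 0 by decide) ht'
    rw [tv_ee] at h8
    obtain ⟨h9, h10⟩ := C0' h2 (h.conj (H411.L4.pm π)) h7 one_ne_zero h8
    rw [← h5, ← h6] at h9 h10
    exact ⟨(H411.L4.Rt_pm π).1 h9, (H411.L4.Rt_pm π).1 h10⟩
  have il : Rt A (Sum.inl 0) (Sum.inl 1) := ik.trans kl (by decide) (by decide)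
  exact all_of h2 h (i := Sum.inl 0) (l := Sum.inl 1) (j := Sum.inr 0) (k := Sum.inr 1)
    (by decide) (by decide) (by decide) (by decide) (by decide) (by decide) il ij ik

/-- **PSL four, `q` even.** -/
theorem killE_even' (h2 : (2 : F) = 0) : KillE (P4 F) := by
  rintro A Γ hA ⟨t, ht, ho⟩
  have h : IFA A := ⟨Γ, hA⟩
  obtain ⟨g, hg⟩ := exists_t h2 h ⟨t, ht, ho⟩
  obtain ⟨a, b, hab, hs⟩ := exists_s h2 (h.conj g) hg
  by_cases ha : a = 0
  · have hb : b ≠ 0 := hab.resolve_left (fun h3 => h3 ha)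
    subst ha
    -- exchange `j` and `k`
    obtain ⟨π, h3, h4, h5, h6⟩ := exists_perm (i := Sum.inl 0) (l := Sum.inl 1) (j := Sum.inr 1) (k := Sum.inr 0)
      (by decide) (by decide) (by decide) (by decide) (by decide) (by decide)
    rw [← tv_ee' b (by decide)] at hs
    have h7 := tv_mem h3 h4 (by decide) (show (Sum.inl 0 : I4) ≠ Sum.inl 1 by decide) hg
    have h8 := tv_mem h3 h5 (by decide) (show (Sum.inl 0 : I4) ≠ Sum.inr 0 by decide) hs
    rw [tv_ee] at h8
    exact first h2 ((h.conj g).conj (H411.L4.pm π)) h7 hb h8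
  · exact first h2 (h.conj g) hg ha hs

/-- **PSL four, `q` even**, for `Fin 4`. -/
theorem psl_four_even (F : Type) [Field F] [Fintype F] (h2 : (2 : F) = 0) :
    KillE (Matrix.ProjectiveSpecialLinearGroup (Fin 4) F) :=
  killE_congr (pslR (F := F) (finSumFinEquiv (m := 2) (n := 2))) (killE_even' h2)

end Fin

end Cfsg.Agent.H358.IF
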