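import Cfsg.Agent.H358.IF.Odd
import Cfsg.Agent.H358.IF.Even

/-!
# S5719, cell `PSL four` (helper358)
-/

set_option autoImplicit false
set_option linter.unusedSectionVars false

namespace Cfsg.Agent.H358.IF

open Cfsg.Agent.H209.Fxy

/-- **The cell `CellsPSL.four`.** -/
theorem psl_four : ∀ (F : Type) [Field F] [Fintype F], KillE (Matrix.ProjectiveSpecialLinearGroup (Fin 4) F) := by
  intro F _ _
  by_cases h2 : (2 : F) = 0
  · exact psl_four_even F h2
  · exact psl_four_odd F h2

end Cfsg.Agent.H358.IF
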