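import Cfsg.Agent.H358.IF.L1
import Cfsg.Agent.H411.L4.MI

/-!
# S5719, cell `PSL four` (helper358): classes of involutions, `q` odd
-/

set_option autoImplicit false
set_option linter.unusedSectionVars false

namespace Cfsg.Agent.H358.IF

open Matrix Cfsg.Agent.H209.Fxy Module

variable {F : Type} [Field F]

/-- the change of coordinates given by a basis -/
theorem conj_of_basis {ι : Type} [Fintype ι] [DecidableEq ι] (b : Basis ι F (ι → F)) :
    ∃ g : GL ι F, ∀ (s : SpecialLinearGroup ι F) (M : Matrix ι ι F), (∀ j, s.val *ᵥ b j = ∑ i, M i j • b i) →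
      (cS g s).val = M := by
  let P : Matrix ι ι F := Matrix.of fun i j => b j i
  have hP : P = (Pi.basisFun F ι).toMatrix b := by
    ext i j
    simp [P, Basis.toMatrix_apply]
  have hu : IsUnit P := by
    rw [hP]
    exact ⟨⟨(Pi.basisFun F ι).toMatrix b, b.toMatrix (Pi.basisFun F ι), Basis.toMatrix_mul_toMatrix_flip _ _,
      Basis.toMatrix_mul_toMatrix_flip _ _⟩, rfl⟩
  obtain ⟨g, hg⟩ := hu
  refine ⟨g⁻¹, fun s M h => ?_⟩
  have h1 : s.val * g.val = g.val * M := by
    rw [hg]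
    ext i j
    have h2 := congrFun (h j) i
    rw [Finset.sum_apply] at h2
    rw [Matrix.mul_apply, Matrix.mul_apply]
    simp only [Matrix.mulVec, dotProduct, Pi.smul_apply, smul_eq_mul] at h2
    simp only [P, Matrix.of_apply]
    rw [h2]
    exact Finset.sum_congr rfl fun k _ => mul_comm _ _
  rw [cS_val, inv_inv, mul_assoc, h1, ← mul_assoc, Units.inv_mul, one_mul]

theorem mulVec_sq {s : S4 F} {c : F} (h : s.val * s.val = c • (1 : Matrix I4 I4 F)) (v : I4 → F) :
    s.val *ᵥ (s.val *ᵥ v) = c • v := by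
  rw [mulVec_mulVec, h, smul_mulVec, one_mulVec]

/-- the matrix `[[0,-1],[1,0]]` -/
def J2 : M2 F := !![0, -1; 1, 0]

theorem J2_sq : (J2 : M2 F) * J2 = -1 := by
  ext i j
  fin_cases i <;> fin_cases j <;> simp [J2, Matrix.mul_apply, Fin.sum_univ_two]

theorem J2_det : (J2 : M2 F).det = 1 := by
  rw [J2, det_fin_two_of]
  ring

/-- `[[0,-1],[1,0]]` in `SL2` -/
def j2 : S2 F := ⟨J2, J2_det⟩

theorem j2_sq : (j2 : S2 F).val * (j2 : S2 F).val = -1 := J2_sq

/-- the involution `j (+) j`, `j² = -1` -/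
def tJ : S4 F := blk (j2, j2)

theorem lin_indep_aux {s : S4 F} {c : F} (h : s.val * s.val = c • (1 : Matrix I4 I4 F)) (hc : ¬ IsSquare c)
    {v w : I4 → F} (hv : v ≠ 0) (hw : ∀ a b : F, w ≠ a • v + b • (s.val *ᵥ v)) :
    ∀ a b x y : F, a • v + b • (s.val *ᵥ v) + x • w + y • (s.val *ᵥ w) = 0 → a = 0 ∧ b = 0 ∧ x = 0 ∧ y = 0 := by
  have key : ∀ (u : I4 → F) (x y : F), (x ≠ 0 ∨ y ≠ 0) → x ^ 2 - y ^ 2 * c ≠ 0 := by
    intro u x y hxy h0
    by_cases hy : y = 0
    · subst hy
      rcases hxy with h1 | h1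
      · apply h1
        have : x ^ 2 = 0 := by linear_combination h0
        exact pow_eq_zero_iff (two_ne_zero) |>.1 this
      · exact h1 rfl
    · apply hc
      refine ⟨x / y, ?_⟩
      field_simp
      linear_combination -h0
  intro a b x y hsum
  have h1 : x = 0 ∧ y = 0 := by
    by_contra hcon
    have hxy : x ≠ 0 ∨ y ≠ 0 := by
      by_contra h2
      push Not at h2
      exact hcon h2
    have hd := key v x y hxy
    -- apply x - y s
    have h2 := congrArg (fun u => x • u - y • (s.val *ᵥ u)) hsum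
    simp only [mulVec_add, mulVec_smul, mulVec_sq h, mulVec_zero, smul_zero, sub_zero] at h2
    apply hw (-(x * a - y * b * c) / (x ^ 2 - y ^ 2 * c)) (-(x * b - y * a) / (x ^ 2 - y ^ 2 * c))
    have h3 : (x ^ 2 - y ^ 2 * c) • w = -(x * a - y * b * c) • v + -(x * b - y * a) • (s.val *ᵥ v) := by
      have h4 : (x ^ 2 - y ^ 2 * c) • w - (-(x * a - y * b * c) • v + -(x * b - y * a) • (s.val *ᵥ v)) = 0 := by
        rw [← h2]
        module
      exact sub_eq_zero.1 h4
    rw [div_eq_inv_mul, div_eq_inv_mul, mul_smul, mul_smul, ← smul_add, ← h3, smul_smul, inv_mul_cancel₀ hd, one_smul]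
  obtain ⟨hx, hy⟩ := h1
  subst hx
  subst hy
  rw [zero_smul, zero_smul, add_zero, add_zero] at hsum
  have h2 : a = 0 ∧ b = 0 := by
    by_contra hcon
    have hxy : a ≠ 0 ∨ b ≠ 0 := by
      by_contra h2
      push Not at h2
      exact hcon h2
    have hd := key v a b hxy
    have h2 := congrArg (fun u => a • u - b • (s.val *ᵥ u)) hsum
    simp only [mulVec_add, mulVec_smul, mulVec_sq h, mulVec_zero, smul_zero, sub_zero] at h2
    apply hv
    have h3 : (a ^ 2 - b ^ 2 * c) • v = 0 := by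
      rw [← h2]
      module
    exact (smul_eq_zero.1 h3).resolve_left hd
  exact ⟨h2.1, h2.2, rfl, rfl⟩

/-- `s² = c`, `c` not a square: `s` is conjugate to `tJ` -/
theorem cls_J {s : S4 F} {c : F} (h : s.val * s.val = c • (1 : Matrix I4 I4 F)) (hc : ¬ IsSquare c) :
    c = -1 ∧ ∃ g : GL I4 F, cS g s = tJ := by
  classical
  let e : I4 → F := Pi.single (Sum.inl 0) 1
  have he : e ≠ 0 := Pi.single_ne_zero_iff.2 one_ne_zero
  obtain ⟨w, hw⟩ : ∃ w : I4 → F, w ∉ Submodule.span F {e, s.val *ᵥ e} := by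
    by_contra hcon
    push Not at hcon
    have h1 : Submodule.span F {e, s.val *ᵥ e} = ⊤ := Submodule.eq_top_iff'.2 hcon
    have h2 := finrank_span_le_card (R := F) ({e, s.val *ᵥ e} : Set (I4 → F))
    rw [h1, finrank_top, Module.finrank_fintype_fun_eq_card] at h2
    have h3 : ({e, s.val *ᵥ e} : Set (I4 → F)).toFinset.card ≤ 2 := by
      rw [Set.toFinset_insert, Set.toFinset_singleton]
      exact Finset.card_le_two
    rw [Fintype.card_sum, Fintype.card_fin] at h2
    omega
  have hw' : ∀ a b : F, w ≠ a • e + b • (s.val *ᵥ e) := by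
    intro a b hab
    apply hw
    rw [Submodule.mem_span_pair]
    exact ⟨a, b, hab.symm⟩
  have hli := lin_indep_aux h hc he hw'
  let b : I4 → (I4 → F) := fun i => match i with
    | Sum.inl i => ![e, s.val *ᵥ e] i
    | Sum.inr i => ![w, s.val *ᵥ w] i
  have hb : LinearIndependent F b := by
    rw [Fintype.linearIndependent_iff]
    intro g hg
    rw [Fintype.sum_sum_type, Fin.sum_univ_two, Fin.sum_univ_two] at hg
    have h1 := hli (g (Sum.inl 0)) (g (Sum.inl 1)) (g (Sum.inr 0)) (g (Sum.inr 1)) (by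
      rw [← hg]
      simp only [b, Matrix.cons_val_zero, Matrix.cons_val_one]
      abel)
    rintro (i | i) <;> fin_cases i
    · exact h1.1
    · exact h1.2.1
    · exact h1.2.2.1
    · exact h1.2.2.2
  let B : Basis I4 F (I4 → F) := basisOfLinearIndependentOfCardEqFinrank hb (by
    rw [Module.finrank_fintype_fun_eq_card])
  have hB : ∀ i, B i = b i := fun i => by
    simp [B]
  obtain ⟨g, hg⟩ := conj_of_basis B
  have h4 : ∀ c' : F, c' = c → (cS g s).val = fromBlocks !![0, c'; 1, 0] 0 0 !![0, c'; 1, 0] := by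
    intro c' hc'
    apply hg
    rintro (j | j) <;> fin_cases j <;>
      simp [Fintype.sum_sum_type, Fin.sum_univ_two, hB, b, mulVec_sq h, hc', fromBlocks]
  have h5 := h4 c rfl
  have h6 := (cS g s).2
  rw [h5, det_fromBlocks_zero₂₁, det_fin_two_of] at h6
  have h7 : (c - 1) * (c + 1) = 0 := by linear_combination h6
  have h8 : c = -1 := by
    rcases mul_eq_zero.1 h7 with h8 | h8
    · exfalso
      apply hc
      rw [sub_eq_zero.1 h8]
      exact ⟨1, by ring⟩
    · exact eq_neg_of_add_eq_zero_left h8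
  refine ⟨h8, g, ?_⟩
  apply Subtype.ext
  rw [h5, h8]
  rfl

section L1

variable [Fintype F] {A : Subgroup (P4 F)}

/-- **(L1)**, all odd `q`: if `t0 = diag(-1,-1,1,1) ∈ A` then `SL(U) ≤ A` or `SL(W) ≤ A`. (`hJ`: there are no involutions of
type `j (+) j`) -/
theorem L1 (h2 : (2 : F) ≠ 0) (h : IFA A) (ht : t0 ∈ At A) (hJ : ¬ IsSquare (-1 : F) → tJ ∉ At A) :
    (∀ a : S2 F, blk (a, 1) ∈ At A) ∨ (∀ b : S2 F, blk (1, b) ∈ At A) := by
  have hq2 : 2 ≤ Fintype.card F := Fintype.one_lt_card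
  have hodd := (ClassicalGeometry.PSL2Basic.two_ne_zero_iff_odd (F := F)).1 h2
  by_cases h5 : 5 ≤ Fintype.card F
  · exact L1_five h2 h5 (fun H hH => H411.L4.mi_odd hodd (by omega) H hH) h ht
  · have h3 : Fintype.card F = 3 := by
      obtain ⟨k, hk⟩ := hodd
      omega
    rcases L1_three h3 h ht with h4 | h4 | h4
    · exact Or.inl h4
    · exact Or.inr h4
    · exfalso
      apply hJ (by rw [FiniteField.isSquare_neg_one_iff, h3]; norm_num)
      obtain ⟨h6, h7⟩ := h4 j2 j2_sq
      have h8 := mul_mem h6 h7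
      rw [← map_mul, Prod.mk_mul_mk, one_mul, mul_one] at h8
      exact h8

end L1

end Cfsg.Agent.H358.IF
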