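import Cfsg.Agent.H358.IF.Cls
import Cfsg.Agent.H411.L4.LR
import Mathlib.Algebra.QuadraticAlgebra.Basic

/-!
# S5719, cell `PSL four` (helper358): `tJ = j (+) j`, `j² = -1`, is not in `A` (`q ≡ 3 mod 4`)
-/

set_option autoImplicit false
set_option linter.unusedSectionVars false

namespace Cfsg.Agent.H358.IF

open Matrix Cfsg.Agent.H209.Fxy Module

variable {F : Type} [Field F]

/-- `F(√-1)` -/
abbrev QE (F : Type) [Field F] := QuadraticAlgebra F (-1) 0

/-- the embedding of `F(√-1)` in `M2(F)` -/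
noncomputable def rE : QE F →ₐ[F] M2 F := QuadraticAlgebra.lift ⟨J2, by rw [J2_sq]; simp⟩

theorem rE_apply (z : QE F) : rE z = z.re • (1 : M2 F) + z.im • J2 := rfl

theorem rE_inj : Function.Injective (rE : QE F → M2 F) := by
  intro z w h
  rw [rE_apply, rE_apply] at h
  have h1 := congrFun (congrFun h 0) 0
  have h2 := congrFun (congrFun h 1) 0
  simp [J2] at h1 h2
  exact QuadraticAlgebra.ext h1 h2

theorem rE_omega : rE (⟨0, 1⟩ : QE F) = J2 := by
  rw [rE_apply]
  simp

/-- the block matrix -/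
noncomputable def bE (M : Matrix (Fin 2) (Fin 2) (QE F)) : Matrix I4 I4 F :=
  fromBlocks (rE (M 0 0)) (rE (M 0 1)) (rE (M 1 0)) (rE (M 1 1))

theorem bE_mul (M N : Matrix (Fin 2) (Fin 2) (QE F)) : bE (M * N) = bE M * bE N := by
  rw [bE, bE, bE, fromBlocks_multiply]
  simp only [Matrix.mul_apply, Fin.sum_univ_two, map_add, map_mul]

theorem bE_one : bE (1 : Matrix (Fin 2) (Fin 2) (QE F)) = 1 := by
  rw [bE, ← fromBlocks_one]
  simp

theorem bE_inj {M N : Matrix (Fin 2) (Fin 2) (QE F)} (h : bE M = bE N) : M = N := by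
  rw [bE, bE, fromBlocks_inj] at h
  obtain ⟨h1, h2, h3, h4⟩ := h
  ext1 i j
  fin_cases i <;> fin_cases j
  · exact rE_inj h1
  · exact rE_inj h2
  · exact rE_inj h3
  · exact rE_inj h4

section Fld

variable [Hab : Fact (∀ r : F, r ^ 2 ≠ (-1) + 0 * r)]

theorem det_bE (s : SpecialLinearGroup (Fin 2) (QE F)) : (bE s.val).det = 1 := by
  refine LieClassical.SLGen.transvection_induction (fun s => (bE s.val).det = 1) ?_ ?_ s
  · intro i j hij c
    have h1 : ∀ M : Matrix (Fin 2) (Fin 2) (QE F), M = Matrix.transvection i j c → (bE M).det = 1 := by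
      rintro M rfl
      fin_cases i <;> fin_cases j
      · exact absurd rfl hij
      · rw [bE]
        simp [Matrix.transvection, Matrix.single]
      · rw [bE]
        simp [Matrix.transvection, Matrix.single]
      · exact absurd rfl hij
    exact h1 _ rfl
  · intro a b ha hb
    show (bE (a.val * b.val)).det = 1
    rw [bE_mul, det_mul, ha, hb, one_mul]

/-- `SL2(E) → SL4(F)` -/
noncomputable def Psi : SpecialLinearGroup (Fin 2) (QE F) →* S4 F where
  toFun s := ⟨bE s.val, det_bE s⟩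
  map_one' := Subtype.ext bE_one
  map_mul' s t := Subtype.ext (bE_mul s.val t.val)

theorem Psi_val (s : SpecialLinearGroup (Fin 2) (QE F)) : (Psi s).val = bE s.val := rfl

theorem Psi_inj : Function.Injective (Psi : SpecialLinearGroup (Fin 2) (QE F) → S4 F) := by
  intro s t h
  exact Subtype.ext (bE_inj (congrArg Subtype.val h))

theorem tJ_val : (tJ : S4 F).val = bE ((⟨0, 1⟩ : QE F) • (1 : Matrix (Fin 2) (Fin 2) (QE F))) := by
  show fromBlocks J2 0 0 J2 = _
  rw [bE]
  simp [rE_omega]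

theorem Psi_comm (s : SpecialLinearGroup (Fin 2) (QE F)) : Psi s * tJ = tJ * Psi s := by
  apply Subtype.ext
  show (Psi s).val * (tJ : S4 F).val = (tJ : S4 F).val * (Psi s).val
  rw [Psi_val, tJ_val, ← bE_mul, ← bE_mul, Matrix.mul_smul, Matrix.smul_mul, mul_one, one_mul]

end Fld

theorem ord_tJ : orderOf (pr (tJ : S4 F)) = 2 := by
  apply ord_pr (c := -1)
  · show fromBlocks J2 0 0 J2 * fromBlocks J2 0 0 J2 = _
    rw [fromBlocks_multiply]
    simp only [mul_zero, zero_mul, add_zero, zero_add]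
    rw [J2_sq, ← fromBlocks_one, fromBlocks_smul]
    simp
  · intro d hd
    have h1 := congrFun (congrFun hd (Sum.inl 1)) (Sum.inl 0)
    have h2 : (tJ : S4 F).val (Sum.inl 1) (Sum.inl 0) = 1 := by
      show (fromBlocks J2 0 0 J2 : Matrix I4 I4 F) _ _ = 1
      simp [J2]
    rw [h2] at h1
    simp at h1

theorem exists_ne_one {G : Type*} [Group G] [Finite G] {H B : Subgroup G} (h : H.relIndex B < Nat.card B) :
    ∃ b ∈ B, b ∈ H ∧ b ≠ 1 := by
  by_contra hcon
  push Not at hcon
  have h1 : H.subgroupOf B = ⊥ := by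
    rw [Subgroup.eq_bot_iff_forall]
    rintro ⟨b, hb⟩ hb'
    exact Subtype.ext (hcon b hb hb')
  rw [Subgroup.relIndex, h1, Subgroup.index_bot] at h
  omega

section Fin

variable [Fintype F] {A : Subgroup (P4 F)} [Hab : Fact (∀ r : F, r ^ 2 ≠ (-1) + 0 * r)]

noncomputable instance : Fintype (QE F) := Fintype.ofEquiv (F × F) (QuadraticAlgebra.equivProd _ _).symm

theorem card_QE : Fintype.card (QE F) = Fintype.card F ^ 2 := by
  rw [Fintype.card_congr (QuadraticAlgebra.equivProd (-1 : F) 0), Fintype.card_prod, pow_two]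

theorem numJ {q f : ℕ} (hq : 2 ≤ q) (h : f ^ 5 * (q ^ 2 * ((q ^ 2) ^ 2 - 1)) <
    q ^ 6 * ((q ^ 4 - 1) * (q ^ 3 - 1) * (q ^ 2 - 1))) : f < q ^ 2 := by
  have e : (q ^ 2) ^ 2 = q ^ 4 := by ring
  rw [e] at h
  have hpos : 0 < q ^ 4 - 1 := by
    have : 2 ^ 4 ≤ q ^ 4 := Nat.pow_le_pow_left hq 4
    omega
  have h1 : f ^ 5 * (q ^ 2 * (q ^ 4 - 1)) < q ^ 9 * (q ^ 2 * (q ^ 4 - 1)) := by
    calc f ^ 5 * (q ^ 2 * (q ^ 4 - 1)) < q ^ 6 * ((q ^ 4 - 1) * (q ^ 3 - 1) * (q ^ 2 - 1)) := h
      _ ≤ q ^ 6 * ((q ^ 4 - 1) * q ^ 3 * q ^ 2) := by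
          gcongr
          · omega
          · omega
      _ = _ := by ring
  have h2 : f ^ 5 < q ^ 9 := lt_of_mul_lt_mul_right h1 (Nat.zero_le _)
  have h3 : q ^ 9 ≤ (q ^ 2) ^ 5 := by
    rw [← pow_mul]
    exact Nat.pow_le_pow_right (by omega) (by norm_num)
  exact lt_of_pow_lt_pow_left₀ 5 (Nat.zero_le _) (h2.trans_le h3)

theorem idx_tJ (h : IFA A) (ht : tJ ∈ At A) {B : Subgroup (SpecialLinearGroup (Fin 2) (QE F))} :
    (At A).relIndex (B.map Psi) < Fintype.card F ^ 2 := by
  have h1 := h.key (by simp) ht ord_tJ (B := B.map Psi) (by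
    rintro _ ⟨b, -, rfl⟩
    exact congrArg pr (Psi_comm b)) (C := Set.range Psi) (by
    rintro _ ⟨x, rfl⟩
    exact congrArg pr (Psi_comm x))
  have h2 := h1.1
  rw [← Nat.card_coe_set_eq, Nat.card_range_of_injective Psi_inj, card_S4] at h2
  have h3 : Nat.card (SpecialLinearGroup (Fin 2) (QE F)) = Fintype.card F ^ 2 * ((Fintype.card F ^ 2) ^ 2 - 1) := by
    rw [← card_QE]
    exact card_S2
  rw [h3] at h2
  exact numJ Fintype.one_lt_card h2

/-- the unipotent group of `SL2(E)` -/
noncomputable def uE {i j : Fin 2} (hij : i ≠ j) : Multiplicative (QE F) →* SpecialLinearGroup (Fin 2) (QE F) where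
  toFun z := SpecialLinearGroup.transvection hij (Multiplicative.toAdd z)
  map_one' := Subtype.ext (Matrix.transvection_zero i j)
  map_mul' _ _ := Subtype.ext (Matrix.transvection_mul_transvection_same i j hij _ _).symm

theorem uE_inj {i j : Fin 2} (hij : i ≠ j) : Function.Injective (uE (F := F) hij) := by
  intro _ _ h
  have h1 := congrFun (congrFun (congrArg Subtype.val h) i) j
  have h2 : ∀ z : Multiplicative (QE F), (uE hij z).val i j = Multiplicative.toAdd z := by
    intro z
    show Matrix.transvection i j (Multiplicative.toAdd z) i j = _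
    simp [Matrix.transvection, hij]
  rw [h2, h2] at h1
  exact h1

theorem exists_tv (h : IFA A) (ht : tJ ∈ At A) {i j : Fin 2} (hij : i ≠ j) :
    ∃ z : QE F, z ≠ 0 ∧ Psi (SpecialLinearGroup.transvection hij z) ∈ At A := by
  have h1 := idx_tJ h ht (B := (uE hij).range)
  have h2 : Nat.card (((uE hij).range).map (Psi : _ →* S4 F)) = Fintype.card F ^ 2 := by
    rw [← card_QE, ← Nat.card_eq_fintype_card, ← MonoidHom.range_comp]
    exact Nat.card_range_of_injective (Psi_inj.comp (uE_inj hij))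
  rw [← h2] at h1
  obtain ⟨_, ⟨_, ⟨z, rfl⟩, rfl⟩, h3, h4⟩ := exists_ne_one h1
  refine ⟨Multiplicative.toAdd z, ?_, h3⟩
  intro h5
  apply h4
  have : z = 1 := h5
  rw [this, map_one, map_one]

theorem exists_up (h : IFA A) (ht : tJ ∈ At A) : ∃ M : M2 F, IsUnit M ∧ up (Multiplicative.ofAdd M) ∈ At A := by
  obtain ⟨z, hz, h1⟩ := exists_tv h ht zero_ne_one
  refine ⟨rE z, (IsUnit.mk0 z hz).map (rE : QE F →ₐ[F] M2 F), ?_⟩
  have : Psi (SpecialLinearGroup.transvection zero_ne_one z) = up (Multiplicative.ofAdd (rE z)) := by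
    apply Subtype.ext
    show bE (Matrix.transvection 0 1 z) = fromBlocks 1 (rE z) 0 1
    rw [bE]
    simp [Matrix.transvection, Matrix.single]
  rwa [this] at h1

theorem exists_lo (h : IFA A) (ht : tJ ∈ At A) : ∃ M : M2 F, IsUnit M ∧ lo (Multiplicative.ofAdd M) ∈ At A := by
  obtain ⟨z, hz, h1⟩ := exists_tv h ht one_ne_zero
  refine ⟨rE z, (IsUnit.mk0 z hz).map (rE : QE F →ₐ[F] M2 F), ?_⟩
  have : Psi (SpecialLinearGroup.transvection one_ne_zero z) = lo (Multiplicative.ofAdd (rE z)) := by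
    apply Subtype.ext
    show bE (Matrix.transvection 1 0 z) = fromBlocks 1 0 (rE z) 1
    rw [bE]
    simp [Matrix.transvection, Matrix.single]
  rwa [this] at h1

omit [Fintype F] in
theorem sq_add_sq {a b : F} (h : a ^ 2 + b ^ 2 = 0) : a = 0 ∧ b = 0 := by
  by_cases hb : b = 0
  · subst hb
    refine ⟨?_, rfl⟩
    have : a ^ 2 = 0 := by linear_combination h
    exact pow_eq_zero_iff two_ne_zero |>.1 this
  · exfalso
    apply Hab.out (a / b)
    field_simp
    linear_combination h

omit [Fintype F] in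
theorem two_QE (h2 : (2 : F) ≠ 0) : (2 : QE F) ≠ 0 := by
  intro h
  apply h2
  rw [← one_add_one_eq_two] at h
  have h3 : (1 : F) + 1 = 0 := congrArg QuadraticAlgebra.re h
  rw [← h3, one_add_one_eq_two]

theorem exists_t0 (h2 : (2 : F) ≠ 0) (h : IFA A) (ht : tJ ∈ At A) :
    ∃ g : GL I4 F, t0 ∈ At (cA g A) ∧ tJ ∈ At (cA g A) := by
  obtain ⟨z, hz, h3⟩ := exists_tv h ht zero_ne_one
  obtain ⟨c, hc, h4⟩ := exists_tv h ht one_ne_zero
  obtain ⟨y, hy, hyy⟩ := H411.L4.exists_sq (two_QE h2) hz hc ((At A).comap Psi)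
    (x := SpecialLinearGroup.transvection zero_ne_one z) (x' := SpecialLinearGroup.transvection one_ne_zero c) h3 h4
    (by
      show Matrix.transvection 0 1 z = _
      ext1 i j
      fin_cases i <;> fin_cases j <;> simp [Matrix.transvection, Matrix.single])
    (by
      show Matrix.transvection 1 0 c = _
      ext1 i j
      fin_cases i <;> fin_cases j <;> simp [Matrix.transvection, Matrix.single])
  have hs : Psi y ∈ At A := hy
  set J : Matrix I4 I4 F := (tJ : S4 F).val with hJ
  set Y : Matrix I4 I4 F := (Psi y).val with hY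
  have hJJ : J * J = -1 := by
    show fromBlocks J2 0 0 J2 * fromBlocks J2 0 0 J2 = _
    rw [fromBlocks_multiply]
    simp only [mul_zero, zero_mul, add_zero, zero_add]
    rw [J2_sq, ← fromBlocks_one, fromBlocks_neg, neg_zero]
  have hYY : Y * Y = -1 := by
    have h5 : bE (y.val * y.val) = Y * Y := bE_mul _ _
    rw [← h5, hyy, bE]
    simp only [Matrix.neg_apply, map_neg, Matrix.one_apply_eq, map_one]
    rw [← fromBlocks_one, fromBlocks_neg]
    simp
  have hcomm : Y * J = J * Y := congrArg Subtype.val (Psi_comm y)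
  have hT : tJ * Psi y ∈ At A := mul_mem ht hs
  set T : Matrix I4 I4 F := J * Y with hTd
  have hTT : T * T = 1 := by
    rw [hTd, mul_assoc, ← mul_assoc Y J Y, hcomm, mul_assoc, hYY, mul_neg_one, mul_neg, hJJ, neg_neg]
  have hTJ : T * J = J * T := by rw [hTd, mul_assoc, hcomm]
  have hsc : ∀ e : F, T ≠ e • (1 : Matrix I4 I4 F) := by
    intro e he
    have h5 : Y = bE ((⟨0, -e⟩ : QE F) • (1 : Matrix (Fin 2) (Fin 2) (QE F))) := by
      have h6 : Y = (-e) • J := by
        calc Y = -(J * J) * Y := by rw [hJJ, neg_neg, one_mul]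
          _ = -(J * T) := by rw [hTd, neg_mul, mul_assoc]
          _ = (-e) • J := by rw [he, Matrix.mul_smul, mul_one, neg_smul]
      rw [h6, hJ, tJ_val]
      rw [bE, bE, fromBlocks_smul]
      simp only [Matrix.smul_apply, Matrix.one_apply_eq, Matrix.one_apply_ne (show (0 : Fin 2) ≠ 1 by decide),
        Matrix.one_apply_ne (show (1 : Fin 2) ≠ 0 by decide), smul_eq_mul, mul_one, mul_zero, map_zero, smul_zero]
      have h7 : (-e) • rE (⟨0, 1⟩ : QE F) = rE (⟨0, -e⟩ : QE F) := by
        rw [rE_apply, rE_apply]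
        simp
      rw [h7]
    have h6 : y.val = (⟨0, -e⟩ : QE F) • (1 : Matrix (Fin 2) (Fin 2) (QE F)) := bE_inj h5
    have h7 := y.2
    have h8 := congrFun (congrFun hyy 0) 0
    rw [h6] at h7 h8
    rw [Matrix.det_smul, Matrix.det_one, Fintype.card_fin, mul_one] at h7
    have h9 : (⟨0, -e⟩ : QE F) * ⟨0, -e⟩ = -1 := by simpa using h8
    apply two_QE h2
    linear_combination h9 - h7
  obtain ⟨v, hv⟩ : ∃ v : I4 → F, T *ᵥ v ≠ v := by
    by_contra hcon
    push Not at hcon
    apply hsc 1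
    rw [one_smul]
    ext i j
    have h5 := congrFun (hcon (Pi.single j 1)) i
    rw [mulVec_single_one] at h5
    rw [Matrix.one_apply]
    simpa [Pi.single_apply] using h5
  obtain ⟨v', hv'⟩ : ∃ v : I4 → F, T *ᵥ v ≠ -v := by
    by_contra hcon
    push Not at hcon
    apply hsc (-1)
    ext i j
    have h5 := congrFun (hcon (Pi.single j 1)) i
    rw [mulVec_single_one] at h5
    rw [Matrix.smul_apply, Matrix.one_apply]
    simpa [Pi.single_apply, neg_ite] using h5
  set u := T *ᵥ v - v with hu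
  set w := T *ᵥ v' + v' with hw
  have hu0 : u ≠ 0 := sub_ne_zero.2 hv
  have hw0 : w ≠ 0 := fun h5 => hv' (eq_neg_of_add_eq_zero_left h5)
  have hTu : T *ᵥ u = -u := by
    rw [hu, mulVec_sub, mulVec_mulVec, hTT, one_mulVec, neg_sub]
  have hTw : T *ᵥ w = w := by
    rw [hw, mulVec_add, mulVec_mulVec, hTT, one_mulVec, add_comm]
  have hTJv : ∀ x, T *ᵥ (J *ᵥ x) = J *ᵥ (T *ᵥ x) := fun x => by rw [mulVec_mulVec, hTJ, ← mulVec_mulVec]
  have hJJv : ∀ x, J *ᵥ (J *ᵥ x) = -x := fun x => by rw [mulVec_mulVec, hJJ, neg_mulVec, one_mulVec]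
  have hcan : ∀ (x : I4 → F) (a b : F), x ≠ 0 → a • x + b • (J *ᵥ x) = 0 → a = 0 ∧ b = 0 := by
    intro x a b hx hab
    have h5 := congrArg (fun z => a • z - b • (J *ᵥ z)) hab
    simp only [mulVec_add, mulVec_smul, hJJv, mulVec_zero, smul_zero, sub_zero] at h5
    have h6 : (a ^ 2 + b ^ 2) • x = 0 := by
      rw [← h5]
      module
    exact sq_add_sq ((smul_eq_zero.1 h6).resolve_right hx)
  let b : I4 → (I4 → F) := fun i => match i with
    | Sum.inl i => ![u, J *ᵥ u] i
    | Sum.inr i => ![w, J *ᵥ w] i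
  have hb : LinearIndependent F b := by
    rw [Fintype.linearIndependent_iff]
    intro g hg
    rw [Fintype.sum_sum_type, Fin.sum_univ_two, Fin.sum_univ_two] at hg
    simp only [b, Matrix.cons_val_zero, Matrix.cons_val_one] at hg
    have h5 := congrArg (fun z => T *ᵥ z) hg
    simp only [mulVec_add, mulVec_smul, hTJv, hTu, hTw, mulVec_neg, mulVec_zero] at h5
    have h6 : g (Sum.inr 0) • w + g (Sum.inr 1) • (J *ᵥ w) = 0 := by
      have h7 : (2 : F) • (g (Sum.inr 0) • w + g (Sum.inr 1) • (J *ᵥ w)) = 0 := by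
        have h8 := congrArg₂ (· + ·) hg h5
        simp only [add_zero] at h8
        rw [← h8]
        module
      exact (smul_eq_zero.1 h7).resolve_left h2
    have h7 : g (Sum.inl 0) • u + g (Sum.inl 1) • (J *ᵥ u) = 0 := by
      rw [h6, add_zero] at hg
      exact hg
    have h8 := hcan w _ _ hw0 h6
    have h9 := hcan u _ _ hu0 h7
    rintro (i | i) <;> fin_cases i
    · exact h9.1
    · exact h9.2
    · exact h8.1
    · exact h8.2
  let B : Basis I4 F (I4 → F) := basisOfLinearIndependentOfCardEqFinrank hb (by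
    rw [Module.finrank_fintype_fun_eq_card])
  have hB : ∀ i, B i = b i := fun i => by
    simp [B]
  obtain ⟨g, hg⟩ := conj_of_basis B
  refine ⟨g, ?_, ?_⟩
  · have h5 : cS g (tJ * Psi y) = t0 := by
      apply Subtype.ext
      rw [t0_val]
      apply hg
      have hval : (tJ * Psi y).val = T := rfl
      rw [hval]
      rintro (j | j) <;> fin_cases j <;>
        simp [Fintype.sum_sum_type, Fin.sum_univ_two, hB, b, hTu, hTw, hTJv, mulVec_neg, fromBlocks]
    rw [← h5]
    exact mem_cA.2 hT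
  · have h5 : cS g tJ = tJ := by
      apply Subtype.ext
      have hval : (tJ : S4 F).val = fromBlocks J2 0 0 J2 := rfl
      rw [hval]
      apply hg
      rintro (j | j) <;> fin_cases j <;>
        simp [Fintype.sum_sum_type, Fin.sum_univ_two, hB, b, J2, ← hJ, hJJv, fromBlocks]
    have h6 := (mem_cA (g := g) (s := tJ)).2 ht
    rwa [h5] at h6

/-! ### the end -/

omit [Fintype F] Hab in
/-- a subring of `M2(F)` containing the trace 0, determinant 1 matrices is everything -/
theorem ring_top (h2 : (2 : F) ≠ 0) (R : Subring (M2 F)) (hR : ∀ a : S2 F, a.val * a.val = -1 → a.val ∈ R) (X : M2 F) :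
    X ∈ R := by
  have hmem : ∀ x y z : F, -(x ^ 2) - y * z = 1 → !![x, y; z, -x] ∈ R := by
    intro x y z h
    refine hR ⟨!![x, y; z, -x], ?_⟩ ?_
    · rw [det_fin_two_of]
      linear_combination h
    · show !![x, y; z, -x] * !![x, y; z, -x] = -1
      ext i j
      fin_cases i <;> fin_cases j <;> simp [Matrix.mul_apply, Fin.sum_univ_two]
      · linear_combination -h
      · ring
      · ring
      · linear_combination -h
  have h1 : ∀ x : F, !![x, 0; 0, -x] ∈ R := by
    intro x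
    have h3 := R.add_mem (hmem (x / 2) 1 (-1 - (x / 2) ^ 2) (by ring)) (hmem (x / 2) (-1) (-(-1 - (x / 2) ^ 2)) (by ring))
    have h4 : (!![x / 2, 1; -1 - (x / 2) ^ 2, -(x / 2)] + !![x / 2, -1; -(-1 - (x / 2) ^ 2), -(x / 2)] : M2 F) =
        !![x, 0; 0, -x] := by
      have h5 : x / 2 + x / 2 = x := by
        field_simp
        ring
      ext i j
      fin_cases i <;> fin_cases j <;> simp
      · exact h5
      · ring
      · linear_combination -h5
    rwa [h4] at h3
  have h3 : ∀ x : F, !![x, 0; 0, x] ∈ R := by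
    intro x
    have h4 := R.mul_mem (h1 x) (h1 1)
    have h5 : (!![x, 0; 0, -x] * !![1, 0; 0, -1] : M2 F) = !![x, 0; 0, x] := by
      ext i j
      fin_cases i <;> fin_cases j <;> simp [Matrix.mul_apply, Fin.sum_univ_two]
    rwa [h5] at h4
  have h4 : ∀ x : F, !![x, 0; 0, 0] ∈ R := by
    intro x
    have h5 := R.add_mem (h1 (x / 2)) (h3 (x / 2))
    have h6 : (!![x / 2, 0; 0, -(x / 2)] + !![x / 2, 0; 0, x / 2] : M2 F) = !![x, 0; 0, 0] := by
      ext i j
      fin_cases i <;> fin_cases j <;> simp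
      field_simp
      ring
    rwa [h6] at h5
  have h5 : ∀ x : F, !![0, 0; 0, x] ∈ R := by
    intro x
    have h5 := R.sub_mem (h3 x) (h4 x)
    have h6 : (!![x, 0; 0, x] - !![x, 0; 0, 0] : M2 F) = !![0, 0; 0, x] := by
      ext i j
      fin_cases i <;> fin_cases j <;> simp
    rwa [h6] at h5
  have h6 : !![0, -1; 1, 0] ∈ R := by
    have := hmem 0 (-1) 1 (by ring)
    rwa [neg_zero] at this
  have h7 : ∀ x : F, !![0, x; 0, 0] ∈ R := by
    intro x
    have h7 := R.mul_mem (h4 (-x)) h6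
    have h8 : (!![-x, 0; 0, 0] * !![0, -1; 1, 0] : M2 F) = !![0, x; 0, 0] := by
      ext i j
      fin_cases i <;> fin_cases j <;> simp [Matrix.mul_apply, Fin.sum_univ_two]
    rwa [h8] at h7
  have h8 : ∀ x : F, !![0, 0; x, 0] ∈ R := by
    intro x
    have h7 := R.mul_mem (h5 x) h6
    have h8 : (!![0, 0; 0, x] * !![0, -1; 1, 0] : M2 F) = !![0, 0; x, 0] := by
      ext i j
      fin_cases i <;> fin_cases j <;> simp [Matrix.mul_apply, Fin.sum_univ_two]
    rwa [h8] at h7
  have h9 := R.add_mem (R.add_mem (h4 (X 0 0)) (h7 (X 0 1))) (R.add_mem (h8 (X 1 0)) (h5 (X 1 1)))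
  have h10 : (!![X 0 0, 0; 0, 0] + !![0, X 0 1; 0, 0] + (!![0, 0; X 1 0, 0] + !![0, 0; 0, X 1 1]) : M2 F) = X := by
    ext i j
    fin_cases i <;> fin_cases j <;> simp
  rwa [h10] at h9

omit Hab in
theorem up_all (h2 : (2 : F) ≠ 0) (ha : ∀ a : S2 F, a.val * a.val = -1 → blk (a, 1) ∈ At A)
    (hM : ∃ M : M2 F, IsUnit M ∧ up (Multiplicative.ofAdd M) ∈ At A) (X : M2 F) : up (Multiplicative.ofAdd X) ∈ At A := by
  let R : Subring (M2 F) :=
    { carrier := {Y | ∀ M, up (Multiplicative.ofAdd M) ∈ At A → up (Multiplicative.ofAdd (Y * M)) ∈ At A}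
      mul_mem' := by
        intro a b hA hB M hM
        rw [mul_assoc]
        exact hA _ (hB _ hM)
      one_mem' := by
        intro M hM
        rwa [one_mul]
      add_mem' := by
        intro a b hA hB M hM
        rw [add_mul, ofAdd_add, map_mul]
        exact mul_mem (hA _ hM) (hB _ hM)
      zero_mem' := by
        intro M hM
        rw [zero_mul, ofAdd_zero, map_one]
        exact one_mem _
      neg_mem' := by
        intro a hA M hM
        rw [neg_mul, ofAdd_neg, map_inv]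
        exact inv_mem (hA _ hM) }
  obtain ⟨M, ⟨m, rfl⟩, hM⟩ := hM
  have h3 : X * (m⁻¹ : (M2 F)ˣ).val ∈ R := by
    apply ring_top h2
    intro a hA M hM
    have h4 := mul_mem (mul_mem (ha a hA) hM) (inv_mem (ha a hA))
    have h5 : blk (a, 1) * up (Multiplicative.ofAdd M) * (blk (a, 1))⁻¹ = up (Multiplicative.ofAdd (a.val * M)) := by
      rw [mul_inv_eq_iff_eq_mul]
      apply Subtype.ext
      show (blk (a, 1)).val * (up (Multiplicative.ofAdd M)).val = (up (Multiplicative.ofAdd (a.val * M))).val * (blk (a, 1)).val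
      rw [blk_val, up_val, up_val, fromBlocks_multiply, fromBlocks_multiply]
      simp
    rwa [h5] at h4
  have h4 := h3 _ hM
  rwa [mul_assoc, Units.inv_mul, mul_one] at h4

omit Hab in
theorem lo_all (h2 : (2 : F) ≠ 0) (ha : ∀ a : S2 F, a.val * a.val = -1 → blk (a, 1) ∈ At A)
    (hM : ∃ M : M2 F, IsUnit M ∧ lo (Multiplicative.ofAdd M) ∈ At A) (X : M2 F) : lo (Multiplicative.ofAdd X) ∈ At A := by
  let R : Subring (M2 F) :=
    { carrier := {Y | ∀ M, lo (Multiplicative.ofAdd M) ∈ At A → lo (Multiplicative.ofAdd (M * Y)) ∈ At A}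
      mul_mem' := by
        intro a b hA hB M hM
        rw [← mul_assoc]
        exact hB _ (hA _ hM)
      one_mem' := by
        intro M hM
        rwa [mul_one]
      add_mem' := by
        intro a b hA hB M hM
        rw [mul_add, ofAdd_add, map_mul]
        exact mul_mem (hA _ hM) (hB _ hM)
      zero_mem' := by
        intro M hM
        rw [mul_zero, ofAdd_zero, map_one]
        exact one_mem _
      neg_mem' := by
        intro a hA M hM
        rw [mul_neg, ofAdd_neg, map_inv]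
        exact inv_mem (hA _ hM) }
  obtain ⟨M, ⟨m, rfl⟩, hM⟩ := hM
  have h3 : (m⁻¹ : (M2 F)ˣ).val * X ∈ R := by
    apply ring_top h2
    intro a hA M hM
    have h4 := mul_mem (mul_mem (inv_mem (ha a hA)) hM) (ha a hA)
    have h5 : (blk (a, 1))⁻¹ * lo (Multiplicative.ofAdd M) * (blk (a, 1)) = lo (Multiplicative.ofAdd (M * a.val)) := by
      rw [mul_assoc, inv_mul_eq_iff_eq_mul]
      apply Subtype.ext
      show (lo (Multiplicative.ofAdd M)).val * (blk (a, 1)).val = (blk (a, 1)).val * (lo (Multiplicative.ofAdd (M * a.val))).val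
      rw [blk_val, lo_val, lo_val, fromBlocks_multiply, fromBlocks_multiply]
      simp
    rwa [h5] at h4
  have h4 := h3 _ hM
  rwa [← mul_assoc, Units.mul_inv, one_mul] at h4

omit Hab in
/-- `A` contains all block unipotent matrices -/
theorem top_of (h : IFA A) (hu : ∀ X : M2 F, up (Multiplicative.ofAdd X) ∈ At A)
    (hl : ∀ X : M2 F, lo (Multiplicative.ofAdd X) ∈ At A) : False := by
  have h1 : ∀ i j : Fin 2, Rt A (Sum.inl i) (Sum.inr j) := by
    intro i j hij a
    have h2 : SpecialLinearGroup.transvection hij a = up (Multiplicative.ofAdd (Matrix.single i j a)) := by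
      apply Subtype.ext
      show Matrix.transvection (Sum.inl i) (Sum.inr j) a = fromBlocks 1 (Matrix.single i j a) 0 1
      ext x y
      rcases x with x | x <;> rcases y with y | y <;>
        simp [Matrix.transvection, Matrix.single, Matrix.one_apply]
    rw [h2]
    exact hu _
  have h3 : ∀ i j : Fin 2, Rt A (Sum.inr i) (Sum.inl j) := by
    intro i j hij a
    have h2 : SpecialLinearGroup.transvection hij a = lo (Multiplicative.ofAdd (Matrix.single i j a)) := by
      apply Subtype.ext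
      show Matrix.transvection (Sum.inr i) (Sum.inl j) a = fromBlocks 1 0 (Matrix.single i j a) 1
      ext x y
      rcases x with x | x <;> rcases y with y | y <;>
        simp [Matrix.transvection, Matrix.single, Matrix.one_apply]
    rw [h2]
    exact hl _
  have : Nontrivial I4 := ⟨⟨Sum.inl 0, Sum.inr 0, by simp⟩⟩
  apply h.not_all
  rintro (i | i) (j | j) hij
  · exact (h1 i 0).trans (h3 0 j) (by simp) (by simp)
  · exact h1 i j
  · exact h3 i j
  · exact (h3 i 0).trans (h1 0 j) (by simp) (by simp)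

omit Hab in
/-- weak form of (L1) -/
theorem L1w (h2 : (2 : F) ≠ 0) (h : IFA A) (ht : t0 ∈ At A) :
    (∀ a : S2 F, a.val * a.val = -1 → blk (a, 1) ∈ At A) ∨ (∀ b : S2 F, b.val * b.val = -1 → blk (1, b) ∈ At A) := by
  have hq2 : 2 ≤ Fintype.card F := Fintype.one_lt_card
  have hodd := (ClassicalGeometry.PSL2Basic.two_ne_zero_iff_odd (F := F)).1 h2
  by_cases h5 : 5 ≤ Fintype.card F
  · rcases L1_five h2 h5 (fun H hH => H411.L4.mi_odd hodd (by omega) H hH) h ht with h3 | h3
    · exact Or.inl fun a _ => h3 a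
    · exact Or.inr fun a _ => h3 a
  · have h3 : Fintype.card F = 3 := by
      obtain ⟨k, hk⟩ := hodd
      omega
    rcases L1_three h3 h ht with h4 | h4 | h4
    · exact Or.inl fun a _ => h4 a
    · exact Or.inr fun a _ => h4 a
    · exact Or.inl fun a ha => (h4 a ha).1

theorem tJ_kill_aux (h2 : (2 : F) ≠ 0) (h : IFA A) (hJ : tJ ∈ At A)
    (ha : ∀ a : S2 F, a.val * a.val = -1 → blk (a, 1) ∈ At A) : False :=
  top_of h (up_all h2 ha (exists_up h hJ)) (lo_all h2 ha (exists_lo h hJ))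

theorem tJ_kill (h2 : (2 : F) ≠ 0) (h : IFA A) (hJ : tJ ∈ At A) : False := by
  obtain ⟨g, h3, h4⟩ := exists_t0 h2 h hJ
  have h5 := h.conj g
  rcases L1w h2 h5 h3 with h6 | h6
  · exact tJ_kill_aux h2 h5 h4 h6
  · have h7 := h5.conj sw
    apply tJ_kill_aux h2 h7
    · have h8 := (mem_cA (g := sw) (s := tJ)).2 h4
      have h9 : cS sw (tJ : S4 F) = tJ := cS_sw_blk j2 j2
      rwa [h9] at h8
    · intro a hA
      have h8 := (mem_cA (g := sw) (s := blk (1, a))).2 (h6 a hA)
      rwa [cS_sw_blk] at h8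

end Fin

/-- **No involution `j (+) j` in `A`** (`-1` not a square). -/
theorem tJ_not_mem [Fintype F] (h2 : (2 : F) ≠ 0) {A : Subgroup (P4 F)} (h : IFA A) (hs : ¬ IsSquare (-1 : F)) :
    tJ ∉ At A := by
  have : Fact (∀ r : F, r ^ 2 ≠ (-1) + 0 * r) := ⟨fun r hr => hs ⟨r, by
    rw [← pow_two, hr]
    ring⟩⟩
  exact fun hJ => tJ_kill h2 h hJ

end Cfsg.Agent.H358.IF
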