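import Cfsg.Agent.H232.IF.RowSL
import Cfsg.Agent.H411.L4.Perm
import Cfsg.Agent.H411.L4.MI
import Cfsg.Agent.H358.IF.JK

/-!
# S5719, cell `PSL four`, `q` even (helper358): tools

`pr_inj`, `EE : S4 F ≃* slV F (I4 → F)`, `idx_tr` (the number of transvections), `IFA.key4`, `exists_t`.
-/

set_option autoImplicit false
set_option linter.unusedSectionVars false

namespace Cfsg.Agent.H358.IF

open Matrix Cfsg.Agent.H209.Fxy Module
open Cfsg.Agent.H232.IFR (nn rk LF)
open Cfsg.Agent.H847.Bs (slV)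

section Tr

variable {F : Type} [Field F]

theorem pr_inj (h2 : (2 : F) = 0) : Function.Injective (pr : S4 F →* _) := by
  intro s t h
  obtain ⟨c, hc⟩ := pr_eq_iff.1 h
  have h1 : c ^ 4 = 1 := by
    have h3 := congrArg Matrix.det hc
    rw [det_smul, s.2, t.2] at h3
    simpa using h3.symm
  have h3 : (c - 1) ^ 4 = 0 := by
    linear_combination h1 + (-2 * c ^ 3 + 3 * c ^ 2 - 2 * c + 1) * h2
  have h4 : c = 1 := sub_eq_zero.1 (pow_eq_zero_iff (by norm_num) |>.1 h3)
  rw [h4, one_smul] at hc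
  exact Subtype.ext hc.symm

theorem range_toLin' : (SpecialLinearGroup.toLin' : S4 F →* _).range = slV F (I4 → F) := by
  ext g
  constructor
  · rintro ⟨A, rfl⟩
    show LinearMap.det (Matrix.toLin' (A : Matrix I4 I4 F)) = 1
    rw [LinearMap.det_toLin', A.2]
  · intro hg
    have hg' : LinearMap.det (g : (I4 → F) →ₗ[F] (I4 → F)) = 1 := hg
    refine ⟨⟨LinearMap.toMatrix' (g : (I4 → F) →ₗ[F] (I4 → F)), by rw [LinearMap.det_toMatrix', hg']⟩, ?_⟩
    ext1 v
    show Matrix.toLin' (LinearMap.toMatrix' (g : (I4 → F) →ₗ[F] (I4 → F))) v = g v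
    rw [Matrix.toLin'_toMatrix']
    rfl

/-- `SL4` as a group of linear maps -/
noncomputable def EE : S4 F ≃* slV F (I4 → F) :=
  (MonoidHom.ofInjective SpecialLinearGroup.toLin'_injective).trans (MulEquiv.subgroupCongr range_toLin')

theorem EE_apply (s : S4 F) (v : I4 → F) :
    ((EE s : slV F (I4 → F)) : (I4 → F) ≃ₗ[F] (I4 → F)) v = s.val *ᵥ v := rfl

theorem nn_EE [Finite F] {s : S4 F} {φ : Dual F (I4 → F)} {p : I4 → F} (h : ∀ v, s.val *ᵥ v = v + φ v • p) :
    nn (EE s) = rk φ p := by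
  apply LinearMap.ext
  intro v
  rw [H232.IFR.nn_apply, EE_apply, h, H232.IFR.rk_apply]
  abel

theorem comap_EE (s : S4 F) : (Subgroup.centralizer ({EE s} : Set (slV F (I4 → F)))).comap (EE : S4 F ≃* _).toMonoidHom =
    Subgroup.centralizer {s} := by
  ext g
  rw [Subgroup.mem_comap, Subgroup.mem_centralizer_singleton_iff, Subgroup.mem_centralizer_singleton_iff]
  show EE g * EE s = EE s * EE g ↔ _
  rw [← map_mul, ← map_mul, EE.injective.eq_iff]

theorem idx_tr [Fintype F] (h2 : (2 : F) = 0) {s : S4 F} {φ : Dual F (I4 → F)} {p : I4 → F}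
    (h : ∀ v, s.val *ᵥ v = v + φ v • p) (hss : s * s = 1) (hφ : φ ≠ 0) (hp : p ≠ 0) :
    (Subgroup.centralizer {s}).index * (Fintype.card F - 1) ≤ (Fintype.card F ^ 4 - 1) * (Fintype.card F ^ 3 - 1) := by
  have h1 : EE s * EE s = (1 : slV F (I4 → F)) := by rw [← map_mul, hss, map_one]
  have h3 := H232.IFR.index_le h2 h1
  have h4 := H232.IFR.card_rank_one_le (F := F) (V := I4 → F)
  rw [nn_EE h, H232.IFR.finrank_range_rk hφ hp] at h3
  have h5 : (Subgroup.centralizer ({EE s} : Set (slV F (I4 → F)))).index = (Subgroup.centralizer {s}).index := by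
    rw [← comap_EE]
    exact (Subgroup.index_comap_of_surjective _ EE.surjective).symm
  rw [h5] at h3
  have h6 : finrank F (I4 → F) = 4 := by
    rw [Module.finrank_fintype_fun_eq_card]
    rfl
  rw [h6, Nat.card_eq_fintype_card (α := F)] at h4
  exact (Nat.mul_le_mul_right _ h3).trans h4

end Tr

section Fin

variable {F : Type} [Field F] [Fintype F] {A : Subgroup (P4 F)}

theorem ker_pr (h2 : (2 : F) = 0) : ∀ z ∈ (pr : S4 F →* _).ker, z ∈ Subgroup.center (S4 F) ∧ (z * z = 1 → z = 1) := by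
  intro z hz
  have h1 : z = 1 := pr_inj h2 (by rw [MonoidHom.mem_ker] at hz; rw [hz, map_one])
  rw [h1]
  exact ⟨one_mem _, fun _ => rfl⟩

theorem key4 (h2 : (2 : F) = 0) (h : IFA A) {s t : S4 F} (hs : s ∈ At A) (ht : t ∈ At A) (hs1 : s ≠ 1) (ht1 : t ≠ 1)
    (hss : s * s = 1) (htt : t * t = 1) (hst : s ≠ t) (hc : s * t = t * s) {B R : Subgroup (S4 F)}
    (hB : ∀ b ∈ B, b * t = t * b) (hR : ∀ r ∈ R, r * t = t * r) (hRs : ∀ r ∈ R, r * s = s * r → r = 1) :
    (At A).relIndex B ^ 4 * Nat.card R < (Subgroup.centralizer {s}).index := by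
  obtain ⟨Γ, h⟩ := h
  have : IsSimpleGroup (P4 F) := LieClassical.SLGen.psl_isSimpleGroup (by simp)
  have hk := ker_pr h2
  have h3 := H809.IFC.IF.E4 h (exists_nc (by simp)) (s := pr s) (t := pr t) hs ht
    (H232.IFR.orderOf_image pr hk hss hs1) (H232.IFR.orderOf_image pr hk htt ht1)
    (fun e => hst (pr_inj h2 e)) (by rw [← map_mul, hc, map_mul])
  have h4 := h3.2.2.1
  have h5 : (Subgroup.centralizer {s}).index = (Subgroup.centralizer ({pr s} : Set (P4 F))).index := by
    rw [← H232.IFR.comap_centralizer pr hk hss, Subgroup.index_comap_of_surjective _ pr_surj]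
  have h6 : (At A).relIndex B ≤ fx A (MulAut.conj (pr t)) := by
    rw [Subgroup.relIndex_comap]
    apply H680.Fxy.relIndex_le
    rintro _ ⟨b, hb, rfl⟩
    rw [MulAut.conj_apply, mul_inv_eq_iff_eq_mul, ← map_mul, ← map_mul, hB b hb]
  have h7 : Nat.card R ≤ (Subgroup.centralizer ({pr s} : Set (P4 F))).relIndex (Subgroup.centralizer ({pr t} : Set (P4 F))) := by
    have h8 : R.map pr ≤ Subgroup.centralizer ({pr t} : Set (P4 F)) := by
      rintro _ ⟨b, hb, rfl⟩
      rw [Subgroup.mem_centralizer_singleton_iff, ← map_mul, ← map_mul, hR b hb]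
    have h9 : (Subgroup.centralizer ({pr s} : Set (P4 F))).relIndex (R.map pr) = Nat.card R := by
      rw [← Subgroup.relIndex_comap, H232.IFR.comap_centralizer pr hk hss, Subgroup.relIndex,
        show (Subgroup.centralizer ({s} : Set (S4 F))).subgroupOf R = ⊥ from ?_, Subgroup.index_bot]
      rw [Subgroup.eq_bot_iff_forall]
      rintro ⟨r, hr⟩ hr'
      exact Subtype.ext (hRs r hr (Subgroup.mem_centralizer_singleton_iff.1 hr'))
    rw [← h9]
    apply Subgroup.relIndex_le_of_le_right h8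
    exact Subgroup.index_ne_zero_of_finite
  rw [h5]
  exact (Nat.mul_le_mul (Nat.pow_le_pow_left h6 4) h7).trans_lt h4

/-- a transvection in standard form -/
def x1 : S4 F := SpecialLinearGroup.transvection (show (Sum.inl 0 : I4) ≠ Sum.inl 1 by decide) 1

theorem exists_t (h2 : (2 : F) = 0) (h : IFA A) (hex : ∃ a ∈ A, orderOf a = 2) :
    ∃ g : GL I4 F, x1 ∈ At (cA g A) := by
  obtain ⟨Γ, hΓ⟩ := h
  have : IsSimpleGroup (P4 F) := LieClassical.SLGen.psl_isSimpleGroup (by simp)
  let π : slV F (I4 → F) →* P4 F := pr.comp (EE : S4 F ≃* _).symm.toMonoidHom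
  have hπ : Function.Surjective π := pr_surj.comp (EE : S4 F ≃* _).symm.surjective
  have hπi : Function.Injective π := (pr_inj h2).comp (EE : S4 F ≃* _).symm.injective
  have hlf : LF (A.comap π) := by
    refine H232.IFR.lf_of π hπ ?_ (exists_nc (by simp)) hΓ
    intro z hz
    have h1 : z = 1 := hπi (by rw [MonoidHom.mem_ker] at hz; rw [hz, map_one])
    rw [h1]
    exact ⟨one_mem _, fun _ => rfl⟩
  obtain ⟨t, ht, htt, ht1⟩ := H232.IFR.exists_trans h2 hlf (by
    obtain ⟨a, ha, ho⟩ := hex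
    obtain ⟨x, rfl⟩ := hπ a
    refine ⟨x, ha, ?_, ?_⟩
    · rintro rfl
      rw [map_one, orderOf_one] at ho
      omega
    · apply hπi
      have h1 := pow_orderOf_eq_one (π x)
      rw [ho, pow_two] at h1
      rw [map_mul, h1, map_one])
  obtain ⟨p, φ, hp, hφ, htn⟩ := H232.IFR.exists_rk ht1
  have hsq := H232.IFR.nn_sq h2 htt
  have hφp : φ p = 0 := by
    rw [htn, H232.IFR.rk_mul_rk] at hsq
    obtain ⟨w, hw⟩ := LinearMap.surjective hφ 1
    have h1 := LinearMap.congr_fun hsq w
    rw [LinearMap.smul_apply, H232.IFR.rk_apply, hw, one_smul, LinearMap.zero_apply] at h1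
    exact (smul_eq_zero.1 h1).resolve_right hp
  obtain ⟨s, rfl⟩ := (EE : S4 F ≃* _).surjective t
  have hs : s ∈ At A := by
    have h1 : pr ((EE : S4 F ≃* _).symm (EE s)) ∈ A := ht
    rwa [MulEquiv.symm_apply_apply] at h1
  have hsv : ∀ v, s.val *ᵥ v = v + φ v • p := by
    intro v
    have h1 := LinearMap.congr_fun htn v
    rw [H232.IFR.nn_apply, EE_apply, H232.IFR.rk_apply] at h1
    rw [← h1]
    abel
  obtain ⟨ψ, hψp⟩ : ∃ ψ : Dual F (I4 → F), ψ p ≠ 0 := by
    by_contra hcon
    push Not at hcon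
    exact hp ((Module.forall_dual_apply_eq_zero_iff F p).1 hcon)
  have hψ : ψ ∉ Submodule.span F {φ} := by
    intro h1
    obtain ⟨c, rfl⟩ := Submodule.mem_span_singleton.1 h1
    apply hψp
    rw [LinearMap.smul_apply, hφp, smul_zero]
  obtain ⟨w, -, hw1, hw2, -, -⟩ := H232.IFR.exists_dual_pair hφ hψ
  have hfr := H232.IFR.finrank_ker_two hφ hψ
  have h6 : finrank F (I4 → F) = 4 := by
    rw [Module.finrank_fintype_fun_eq_card]
    rfl
  rw [h6] at hfr
  let bW := Module.finBasisOfFinrankEq F (LinearMap.ker φ ⊓ LinearMap.ker ψ : Submodule F (I4 → F)) (n := 2) (by omega)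
  let b : I4 → (I4 → F) := Sum.elim ![p, w] (fun i => (bW i : I4 → F))
  have hu1 : ∀ i, φ (bW i : I4 → F) = 0 := fun i => (bW i).2.1
  have hu2 : ∀ i, ψ (bW i : I4 → F) = 0 := fun i => (bW i).2.2
  have hli : LinearIndependent F b := by
    rw [Fintype.linearIndependent_iff]
    intro g hg
    rw [Fintype.sum_sum_type, Fin.sum_univ_two] at hg
    have e0 : b (Sum.inl 0) = p := rfl
    have e1 : b (Sum.inl 1) = w := rfl
    have e2 : ∀ i, b (Sum.inr i) = (bW i : I4 → F) := fun _ => rfl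
    simp only [e0, e1, e2] at hg
    have a1 := congrArg φ hg
    have a2 := congrArg ψ hg
    simp only [map_add, map_smul, map_sum, hφp, hw1, hw2, hu1, hu2, smul_zero, zero_add, add_zero, Finset.sum_const_zero,
      map_zero, smul_eq_mul, mul_one, mul_zero] at a1 a2
    have a3 : g (Sum.inl 0) = 0 := (mul_eq_zero.1 a2).resolve_right hψp
    rw [a1, a3, zero_smul, zero_smul, zero_add, zero_add] at hg
    have a4 : ∑ i, g (Sum.inr i) • bW i = 0 := by
      apply Subtype.ext
      rw [Submodule.coe_sum]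
      exact hg
    have a5 := Fintype.linearIndependent_iff.1 bW.linearIndependent (fun i => g (Sum.inr i)) a4
    rintro (i | i)
    · fin_cases i
      · exact a3
      · exact a1
    · exact a5 i
  let bb := basisOfLinearIndependentOfCardEqFinrank hli (by rw [h6]; rfl)
  have hbb : ⇑bb = b := coe_basisOfLinearIndependentOfCardEqFinrank _ _
  obtain ⟨g, hg⟩ := conj_of_basis bb
  refine ⟨g, ?_⟩
  have h7 : cS g s = x1 := by
    apply Subtype.ext
    apply hg
    intro j
    rw [hbb]
    rw [Fintype.sum_sum_type, Fin.sum_univ_two, Fin.sum_univ_two, hsv]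
    show _ = (Matrix.transvection (Sum.inl 0 : I4) (Sum.inl 1) (1 : F)) _ _ • _ +
      (Matrix.transvection (Sum.inl 0 : I4) (Sum.inl 1) (1 : F)) _ _ • _ +
      ((Matrix.transvection (Sum.inl 0 : I4) (Sum.inl 1) (1 : F)) _ _ • _ +
      (Matrix.transvection (Sum.inl 0 : I4) (Sum.inl 1) (1 : F)) _ _ • _)
    rcases j with j | j
    · fin_cases j
      · show p + φ p • p = _
        rw [hφp, zero_smul, add_zero]
        simp [Matrix.transvection, Matrix.one_apply, b]
      · show w + φ w • p = _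
        rw [hw1, one_smul]
        simp [Matrix.transvection, Matrix.one_apply, b]
        rw [add_comm]
    · show (bW j : I4 → F) + φ (bW j : I4 → F) • p = _
      rw [hu1, zero_smul, add_zero]
      fin_cases j
      · simp [Matrix.transvection, Matrix.one_apply, b]
      · simp [Matrix.transvection, Matrix.one_apply, b]
  rw [← h7]
  exact mem_cA.2 hs

end Fin

end Cfsg.Agent.H358.IF
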