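import Cfsg.Agent.H358.IF.Cls

/-!
# S5719, cell `PSL four` (helper358): involutions with `s² = ν²`
-/

set_option autoImplicit false
set_option linter.unusedSectionVars false

namespace Cfsg.Agent.H358.IF

open Matrix Cfsg.Agent.H209.Fxy Module

variable {F : Type} [Field F]

theorem eig_basis (h2 : (2 : F) ≠ 0) {T : Matrix I4 I4 F} (hT : T * T = 1) :
    ∃ (b : Basis I4 F (I4 → F)) (ε : I4 → Bool), ∀ i, T *ᵥ b i = (if ε i then (-1 : F) else 1) • b i := by
  classical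
  let f : (I4 → F) →ₗ[F] (I4 → F) := Matrix.toLin' T
  have hf : ∀ x, f x = T *ᵥ x := fun x => Matrix.toLin'_apply T x
  have hff : ∀ x, f (f x) = x := fun x => by rw [hf, hf, mulVec_mulVec, hT, one_mulVec]
  let P : Submodule F (I4 → F) := LinearMap.ker (f + LinearMap.id)
  let Q : Submodule F (I4 → F) := LinearMap.ker (f - LinearMap.id)
  have hP : ∀ x, x ∈ P ↔ f x = -x := fun x => by
    rw [LinearMap.mem_ker, LinearMap.add_apply, LinearMap.id_apply, add_eq_zero_iff_eq_neg]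
  have hQ : ∀ x, x ∈ Q ↔ f x = x := fun x => by
    rw [LinearMap.mem_ker, LinearMap.sub_apply, LinearMap.id_apply, sub_eq_zero]
  have hc : IsCompl P Q := by
    constructor
    · rw [Submodule.disjoint_def]
      intro x h3 h4
      rw [hP] at h3
      rw [hQ] at h4
      have h5 : (2 : F) • x = 0 := by
        rw [two_smul]
        nth_rewrite 1 [← h4]
        rw [h3, neg_add_cancel]
      exact (smul_eq_zero.1 h5).resolve_left h2
    · rw [codisjoint_iff, Submodule.eq_top_iff']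
      intro x
      have h3 : x = (2 : F)⁻¹ • (x - f x) + (2 : F)⁻¹ • (x + f x) := by
        rw [← smul_add, show x - f x + (x + f x) = (2 : F) • x by module, smul_smul, inv_mul_cancel₀ h2, one_smul]
      rw [h3]
      refine Submodule.add_mem_sup (P.smul_mem _ ?_) (Q.smul_mem _ ?_)
      · rw [hP, map_sub, hff, neg_sub]
      · rw [hQ, map_add, hff, add_comm]
  let B := ((Module.finBasis F P).prod (Module.finBasis F Q)).map (Submodule.prodEquivOfIsCompl P Q hc)
  have hcard : Fintype.card (Fin (finrank F P) ⊕ Fin (finrank F Q)) = Fintype.card I4 := by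
    rw [← Module.finrank_eq_card_basis B, Module.finrank_fintype_fun_eq_card]
  let e := Fintype.equivOfCardEq hcard
  refine ⟨B.reindex e, fun i => (e.symm i).isLeft, fun i => ?_⟩
  rw [Basis.reindex_apply]
  beta_reduce
  rcases e.symm i with k | k
  · have h3 : B (Sum.inl k) ∈ P := by
      simp [B]
    rw [← hf, (hP _).1 h3]
    simp
  · have h3 : B (Sum.inr k) ∈ Q := by
      simp [B]
    rw [← hf, (hQ _).1 h3]
    simp

/-- `Fin 4 ≃ I4` -/
def e4 : Fin 4 ≃ I4 := (finSumFinEquiv (m := 2) (n := 2)).symm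

theorem e4_0 : e4 0 = Sum.inl 0 := rfl
theorem e4_1 : e4 1 = Sum.inl 1 := rfl
theorem e4_2 : e4 2 = Sum.inr 0 := rfl
theorem e4_3 : e4 3 = Sum.inr 1 := rfl

theorem perm_cases : ∀ a b c d : Bool, (a = b ∧ b = c ∧ c = d) ∨
    (∃ (σ : Equiv.Perm (Fin 4)) (x : Bool), ![a, b, c, d] (σ 0) = x ∧ ![a, b, c, d] (σ 1) = x ∧
      ![a, b, c, d] (σ 2) = !x ∧ ![a, b, c, d] (σ 3) = !x) ∨
    (∃ (σ : Equiv.Perm (Fin 4)) (x : Bool), ![a, b, c, d] (σ 0) = x ∧ ![a, b, c, d] (σ 1) = x ∧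
      ![a, b, c, d] (σ 2) = x ∧ ![a, b, c, d] (σ 3) = !x) := by
  decide

theorem perm_cases' (ε : I4 → Bool) : (∀ i, ε i = ε (Sum.inl 0)) ∨
    (∃ (σ : Equiv.Perm I4) (x : Bool), ε (σ (Sum.inl 0)) = x ∧ ε (σ (Sum.inl 1)) = x ∧
      ε (σ (Sum.inr 0)) = !x ∧ ε (σ (Sum.inr 1)) = !x) ∨
    (∃ (σ : Equiv.Perm I4) (x : Bool), ε (σ (Sum.inl 0)) = x ∧ ε (σ (Sum.inl 1)) = x ∧
      ε (σ (Sum.inr 0)) = x ∧ ε (σ (Sum.inr 1)) = !x) := by
  have h0 : ∀ (σ : Equiv.Perm (Fin 4)) (i : Fin 4), ε ((e4.permCongr σ) (e4 i)) =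
      ![ε (Sum.inl 0), ε (Sum.inl 1), ε (Sum.inr 0), ε (Sum.inr 1)] (σ i) := by
    intro σ i
    rw [Equiv.permCongr_apply, Equiv.symm_apply_apply]
    generalize σ i = k
    fin_cases k <;> rfl
  rcases perm_cases (ε (Sum.inl 0)) (ε (Sum.inl 1)) (ε (Sum.inr 0)) (ε (Sum.inr 1)) with
    ⟨h1, h2, h3⟩ | ⟨σ, x, h1, h2, h3, h4⟩ | ⟨σ, x, h1, h2, h3, h4⟩
  · left
    rintro (i | i) <;> fin_cases i
    · rfl
    · exact h1.symm
    · exact (h1.trans h2).symm
    · exact (h1.trans (h2.trans h3)).symm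
  · right
    left
    exact ⟨e4.permCongr σ, x, (h0 σ 0).trans h1, (h0 σ 1).trans h2, (h0 σ 2).trans h3, (h0 σ 3).trans h4⟩
  · right
    right
    exact ⟨e4.permCongr σ, x, (h0 σ 0).trans h1, (h0 σ 1).trans h2, (h0 σ 2).trans h3, (h0 σ 3).trans h4⟩

theorem cls_sq (h2 : (2 : F) ≠ 0) {s : S4 F} {n : F} (hn : n ≠ 0) (h : s.val * s.val = (n * n) • (1 : Matrix I4 I4 F))
    (hs : ∀ d : F, s.val ≠ d • (1 : Matrix I4 I4 F)) :
    ∃ (g : GL I4 F) (l : F), (cS g s).val = l • fromBlocks (-1) 0 0 1 ∨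
      (cS g s).val = l • fromBlocks 1 0 0 !![1, 0; 0, -1] := by
  set T : Matrix I4 I4 F := n⁻¹ • s.val with hT
  have hsT : s.val = n • T := by rw [hT, smul_smul, mul_inv_cancel₀ hn, one_smul]
  have hTT : T * T = 1 := by
    rw [hT, Matrix.smul_mul, Matrix.mul_smul, h, smul_smul, smul_smul]
    have : n⁻¹ * n⁻¹ * (n * n) = 1 := by field_simp
    rw [this, one_smul]
  obtain ⟨b, ε, hb⟩ := eig_basis h2 hTT
  have hneg : ∀ x : Bool, (if (!x) = true then (-1 : F) else 1) = -(if x = true then (-1 : F) else 1) := by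
    intro x
    cases x <;> simp
  rcases perm_cases' ε with h3 | ⟨σ, x, h3, h4, h5, h6⟩ | ⟨σ, x, h3, h4, h5, h6⟩
  · exfalso
    apply hs (n * (if ε (Sum.inl 0) then (-1 : F) else 1))
    have h4 : T = (if ε (Sum.inl 0) then (-1 : F) else 1) • (1 : Matrix I4 I4 F) := by
      apply Matrix.toLin'.injective
      apply b.ext
      intro i
      rw [Matrix.toLin'_apply, hb i, h3 i, map_smul, Matrix.toLin'_one, LinearMap.smul_apply, LinearMap.id_apply]
    rw [hsT, h4, smul_smul]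
  · obtain ⟨g, hg⟩ := conj_of_basis (b.reindex σ.symm)
    refine ⟨g, -(n * (if x then (-1 : F) else 1)), Or.inl ?_⟩
    apply hg
    have hb' : ∀ i, (b.reindex σ.symm) i = b (σ i) := fun i => by
      rw [Basis.reindex_apply, Equiv.symm_symm]
    intro j
    rw [hsT, smul_mulVec, hb', hb]
    rcases j with j | j <;> fin_cases j <;>
      simp only [Fin.zero_eta, Fin.mk_one, h3, h4, h5, h6, hneg] <;>
      cases x <;>
      simp [Fintype.sum_sum_type, Fin.sum_univ_two, hb', fromBlocks]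
  · obtain ⟨g, hg⟩ := conj_of_basis (b.reindex σ.symm)
    refine ⟨g, (n * (if x then (-1 : F) else 1)), Or.inr ?_⟩
    apply hg
    have hb' : ∀ i, (b.reindex σ.symm) i = b (σ i) := fun i => by
      rw [Basis.reindex_apply, Equiv.symm_symm]
    intro j
    rw [hsT, smul_mulVec, hb', hb]
    rcases j with j | j <;> fin_cases j <;>
      simp only [Fin.zero_eta, Fin.mk_one, h3, h4, h5, h6, hneg] <;>
      cases x <;>
      simp [Fintype.sum_sum_type, Fin.sum_univ_two, hb', fromBlocks]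

end Cfsg.Agent.H358.IF
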