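import Cfsg.Agent.H358.IF.JK
import Cfsg.Agent.H358.IF.Sq
import Cfsg.Agent.H411.L4.Frame
import Cfsg.Agent.H411.L4.Dick
import Cfsg.Agent.H833.IF.T3
import Cfsg.Agent.H458.IF.TOneC

/-!
# S5719, cell `PSL four`, `q` odd, `|A|` even (helper358; pieces by helper411, 833, 458)
-/

set_option autoImplicit false
set_option linter.unusedSectionVars false

namespace Cfsg.Agent.H358.IF

open Matrix Cfsg.Agent.H209.Fxy Module

variable {F : Type} [Field F] [Fintype F] {A : Subgroup (P4 F)}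

theorem num_D {q x : ℕ} (hq : 3 ≤ q) (h : 2 * x ^ 5 < q ^ 4 * (q ^ 2 + q + 1) * (q ^ 2 + 1)) : x < q * (q - 1) := by
  obtain ⟨r, rfl⟩ : ∃ r, q = r + 3 := ⟨q - 3, by omega⟩
  rw [show r + 3 - 1 = r + 2 by omega]
  by_contra hcon
  push Not at hcon
  have h1 : ((r + 3) * (r + 2)) ^ 5 ≤ x ^ 5 := Nat.pow_le_pow_left hcon 5
  have h2 : (r + 3) ^ 4 * ((r + 3) ^ 2 + (r + 3) + 1) * ((r + 3) ^ 2 + 1) ≤ 2 * ((r + 3) * (r + 2)) ^ 5 := by
    have e1 : (r + 3) ^ 4 * ((r + 3) ^ 2 + (r + 3) + 1) * ((r + 3) ^ 2 + 1) =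
        (r + 3) ^ 4 * (((r + 3) ^ 2 + (r + 3) + 1) * ((r + 3) ^ 2 + 1)) := by ring
    have e2 : 2 * ((r + 3) * (r + 2)) ^ 5 = (r + 3) ^ 4 * (2 * (r + 3) * (r + 2) ^ 5) := by ring
    rw [e1, e2]
    apply Nat.mul_le_mul_left
    nlinarith [sq_nonneg r, Nat.zero_le (r ^ 3), Nat.zero_le (r ^ 4), Nat.zero_le (r ^ 5), Nat.zero_le (r ^ 6),
      Nat.zero_le r]
  omega

/-- `D_W` is large if `SL(U) ≤ A` -/
theorem card_DW (h2 : (2 : F) ≠ 0) (h : IFA A) (ht : t0 ∈ At A) :
    Fintype.card F + 1 < Nat.card ((At A).comap (blk.comp (MonoidHom.inr (S2 F) (S2 F))) : Subgroup (S2 F)) := by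
  obtain ⟨h3, -⟩ := idx_t0 h2 h ht
  have hq : 3 ≤ Fintype.card F := by
    have hodd := (ClassicalGeometry.PSL2Basic.two_ne_zero_iff_odd (F := F)).1 h2
    have : 1 < Fintype.card F := Fintype.one_lt_card
    obtain ⟨k, hk⟩ := hodd
    omega
  have h4 := num_D hq h3
  set D := ((At A).comap (blk.comp (MonoidHom.inr (S2 F) (S2 F))) : Subgroup (S2 F)) with hD
  have h5 : D.index ≤ (Dt A).index := by
    rw [index_split (Dt A)]
    refine Nat.le_mul_of_pos_left _ (Nat.pos_of_ne_zero ?_)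
    exact Subgroup.index_ne_zero_of_finite
  have h6 := D.card_mul_index
  rw [card_S2] at h6
  by_contra hcon
  push Not at hcon
  set q := Fintype.card F with hqd
  have h7 : q * (q ^ 2 - 1) ≤ (q + 1) * (Dt A).index := by
    rw [← h6]
    exact Nat.mul_le_mul hcon h5
  have h8 : (q + 1) * (Dt A).index < (q + 1) * (q * (q - 1)) := Nat.mul_lt_mul_of_pos_left h4 (by omega)
  have h9 : (q + 1) * (q * (q - 1)) = q * (q ^ 2 - 1) := by
    obtain ⟨r, hr⟩ : ∃ r, q = r + 1 := ⟨q - 1, by omega⟩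
    rw [hr, Nat.add_sub_cancel]
    have : (r + 1) ^ 2 - 1 = r * (r + 2) := by
      have : (r + 1) ^ 2 = r * (r + 2) + 1 := by ring
      omega
    rw [this]
    ring
  omega

/-- an involution `d`, `det d = -1`, of `GL2` is conjugate to `diag(1,-1)` -/
theorem conj_diag (h2 : (2 : F) ≠ 0) {d : M2 F} (hd : d * d = 1) (hdet : d.det = -1) :
    ∃ g : GL (Fin 2) F, g.val * d * (g⁻¹ : GL (Fin 2) F).val = !![1, 0; 0, -1] := by
  obtain ⟨v, hv⟩ : ∃ v : Fin 2 → F, d *ᵥ v ≠ v := by
    by_contra hcon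
    push Not at hcon
    have h3 : d = 1 := by
      ext i j
      have h5 := congrFun (hcon (Pi.single j 1)) i
      rw [mulVec_single_one] at h5
      rw [Matrix.one_apply]
      simpa [Pi.single_apply] using h5
    rw [h3, det_one] at hdet
    apply h2
    linear_combination hdet
  obtain ⟨v', hv'⟩ : ∃ v : Fin 2 → F, d *ᵥ v ≠ -v := by
    by_contra hcon
    push Not at hcon
    have h3 : d = -1 := by
      ext i j
      have h5 := congrFun (hcon (Pi.single j 1)) i
      rw [mulVec_single_one] at h5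
      rw [Matrix.neg_apply, Matrix.one_apply]
      simpa [Pi.single_apply] using h5
    rw [h3, det_neg, det_one, Fintype.card_fin] at hdet
    apply h2
    linear_combination hdet
  set u := d *ᵥ v - v with hu
  set w := d *ᵥ v' + v' with hw
  have hu0 : u ≠ 0 := sub_ne_zero.2 hv
  have hw0 : w ≠ 0 := fun h5 => hv' (eq_neg_of_add_eq_zero_left h5)
  have hdu : d *ᵥ u = -u := by
    rw [hu, mulVec_sub, mulVec_mulVec, hd, one_mulVec, neg_sub]
  have hdw : d *ᵥ w = w := by
    rw [hw, mulVec_add, mulVec_mulVec, hd, one_mulVec, add_comm]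
  have hb : LinearIndependent F ![w, u] := by
    rw [LinearIndependent.pair_iff]
    intro a b hab
    have h5 := congrArg (fun z => d *ᵥ z) hab
    simp only [mulVec_add, mulVec_smul, hdu, hdw, mulVec_zero] at h5
    have h6 : (2 : F) • (a • w) = 0 := by
      have h8 := congrArg₂ (· + ·) hab h5
      simp only [add_zero] at h8
      rw [← h8]
      module
    have h7 : a = 0 := (smul_eq_zero.1 ((smul_eq_zero.1 h6).resolve_left h2)).resolve_right hw0
    rw [h7, zero_smul, zero_add] at hab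
    exact ⟨h7, (smul_eq_zero.1 hab).resolve_right hu0⟩
  let P : M2 F := Matrix.of fun i j => ![w, u] j i
  have hPu : IsUnit P := by
    rw [Matrix.isUnit_iff_isUnit_det, ← Matrix.det_transpose, ← Matrix.isUnit_iff_isUnit_det]
    have := Matrix.linearIndependent_rows_iff_isUnit (A := Pᵀ)
    rw [← this]
    exact hb
  obtain ⟨g, hg⟩ := hPu
  refine ⟨g⁻¹, ?_⟩
  have h3 : d * g.val = g.val * !![1, 0; 0, -1] := by
    rw [hg]
    ext i j
    fin_cases j
    · have := congrFun hdw i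
      simpa [Matrix.mul_apply, Fin.sum_univ_two, P, mulVec, dotProduct] using this
    · have := congrFun hdu i
      simpa [Matrix.mul_apply, Fin.sum_univ_two, P, mulVec, dotProduct] using this
  rw [inv_inv, mul_assoc, h3, ← mul_assoc, Units.inv_mul, one_mul]

/-- the kill, once `t0 ∈ A` and `SL(U) ≤ A` -/
theorem kill_U (h2 : (2 : F) ≠ 0) (h : IFA A) (ht : t0 ∈ At A) (hU : ∀ a : S2 F, blk (a, 1) ∈ At A) : False := by
  have hJ : ∀ A' : Subgroup (P4 F), IFA A' → ¬ IsSquare (-1 : F) → tJ ∉ At A' := fun A' h' hs => tJ_not_mem h2 h' hs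
  by_cases hfr : ∀ (d e : M2 F) (hde : d.det * e.det = 1), d * d = 1 → e * e = 1 → d.det = -1 → e.det = -1 →
      dg d e hde ∉ At A
  · have hno : ∀ b : S2 F, b.val * b.val = -1 → blk (1, b) ∉ At A := by
      intro b hb hmem
      by_cases hs : IsSquare (-1 : F)
      · obtain ⟨i, hi⟩ := hs
        have hi0 : i ≠ 0 := by
          rintro rfl
          rw [mul_zero] at hi
          exact one_ne_zero (neg_eq_zero.1 hi)
        have h3 := mul_mem (hU b) hmem
        rw [← map_mul, Prod.mk_mul_mk, one_mul, mul_one] at h3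
        have hii : i⁻¹ * i⁻¹ = -1 := by
          rw [← mul_inv, ← hi, inv_neg, inv_one]
        have hdet : (i⁻¹ • b.val).det = -1 := by
          rw [det_smul, b.2, Fintype.card_fin, mul_one, pow_two, hii]
        have hsq : (i⁻¹ • b.val) * (i⁻¹ • b.val) = 1 := by
          rw [Matrix.smul_mul, Matrix.mul_smul, hb, smul_smul, hii, neg_one_smul, neg_neg]
        refine hfr (i⁻¹ • b.val) (i⁻¹ • b.val) (by rw [hdet]; ring) hsq hsq hdet hdet ?_
        refine mem_At_of_smul (c := i⁻¹) ?_ h3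
        rw [dg_val, blk_val, fromBlocks_smul]
        simp
      · have h3 := mul_mem (hU b) hmem
        rw [← map_mul, Prod.mk_mul_mk, one_mul, mul_one] at h3
        have h4 : (blk (b, b)).val * (blk (b, b)).val = (-1 : F) • (1 : Matrix I4 I4 F) := by
          rw [blk_val, fromBlocks_multiply]
          simp only [mul_zero, zero_mul, add_zero, zero_add]
          rw [hb, ← fromBlocks_one, fromBlocks_smul]
          simp
        obtain ⟨-, g, hg⟩ := cls_J h4 hs
        apply hJ _ (h.conj g) hs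
        rw [← hg]
        exact mem_cA.2 h3
    obtain ⟨b, hbD, hb1, hb2⟩ := H411.L4.exists_unip h2
      ((At A).comap (blk.comp (MonoidHom.inr (S2 F) (S2 F))) : Subgroup (S2 F))
      (fun y hy hyy => hno y hyy hy) (card_DW h2 h ht)
    exact H458.IFl.t1_false h2 h hU hno ⟨b, hb1, hb2, hbD⟩ hfr
  · push Not at hfr
    obtain ⟨d, e, hde, hd, he, hdd, hed, hmem⟩ := hfr
    obtain ⟨g, hg⟩ := conj_diag h2 hd hdd
    obtain ⟨k, hk⟩ := conj_diag h2 he hed
    have h3 := h.conj (gg g k)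
    have h4 : ∀ hd', dg !![1, 0; 0, -1] !![1, 0; 0, -1] hd' ∈ At (cA (gg g k) A) := by
      intro hd'
      have h5 := (mem_cA (g := gg g k)).2 hmem
      have h6 : cS (gg g k) (dg d e hde) = dg !![1, 0; 0, -1] !![1, 0; 0, -1] hd' := by
        apply Subtype.ext
        rw [cS_gg_dg g k d e hde (by rw [hg, hk]; exact hd'), dg_val, dg_val, hg, hk]
      rwa [h6] at h5
    have h5 : t0 ∈ At (cA (gg g k) A) := by
      have h5 := (mem_cA (g := gg g k)).2 ht
      have h6 : cS (gg g k) (t0 : S4 F) = t0 := by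
        apply Subtype.ext
        rw [cS_val, t0_val, gg_inv_val]
        show fromBlocks g.val 0 0 k.val * _ * _ = _
        rw [fromBlocks_multiply, fromBlocks_multiply]
        simp
      rwa [h6] at h5
    exact H411.L4.frame_false h2 h3 hJ h5 h4

theorem kill_t0 (h2 : (2 : F) ≠ 0) (h : IFA A) (ht : t0 ∈ At A) : False := by
  rcases L1 h2 h ht (tJ_not_mem h2 h) with h3 | h3
  · exact kill_U h2 h ht h3
  · have h4 := h.conj sw
    refine kill_U h2 h4 ?_ ?_
    · have h5 := (mem_cA (g := sw) (s := t0)).2 ht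
      refine mem_At_of_smul (c := -1) ?_ h5
      rw [cS_val, t0_val, sw_val, sw_inv_val, fromBlocks_multiply, fromBlocks_multiply, fromBlocks_smul]
      simp
    · intro a
      have h8 := (mem_cA (g := sw) (s := blk (1, a))).2 (h3 a)
      rwa [cS_sw_blk] at h8

/-- **PSL four, `q` odd.** -/
theorem killE_odd' (h2 : (2 : F) ≠ 0) : KillE (P4 F) := by
  rintro A Γ hA ⟨t, ht, ho⟩
  have h : IFA A := ⟨Γ, hA⟩
  obtain ⟨s, rfl⟩ := pr_surj t
  have hs : s ∈ At A := ht
  have h3 : pr (s * s) = pr 1 := by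
    have h3 := pow_orderOf_eq_one (pr s)
    rw [ho, pow_two] at h3
    rw [map_mul, h3, map_one]
  obtain ⟨c, hc⟩ := pr_eq_iff.1 h3.symm
  have hss : s.val * s.val = c • (1 : Matrix I4 I4 F) := hc
  have hns : ∀ d : F, s.val ≠ d • (1 : Matrix I4 I4 F) := by
    intro d hd
    have h4 : pr s = 1 := by
      rw [← map_one pr, eq_comm, pr_eq_iff]
      exact ⟨d, hd⟩
    rw [h4, orderOf_one] at ho
    omega
  have hc0 : c ≠ 0 := by
    rintro rfl
    rw [zero_smul] at hss
    have h4 := congrArg Matrix.det hss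
    rw [det_mul, s.2, det_zero, one_mul] at h4
    exact one_ne_zero h4
  by_cases hsq : IsSquare c
  · obtain ⟨n, rfl⟩ := hsq
    have hn : n ≠ 0 := fun h4 => hc0 (by rw [h4, mul_zero])
    obtain ⟨g, l, h5 | h5⟩ := cls_sq h2 hn hss hns
    · have h6 : cS g s ∈ At (cA g A) := mem_cA.2 hs
      have hl : l ≠ 0 := by
        rintro rfl
        rw [zero_smul] at h5
        have h7 := (cS g s).2
        rw [h5, det_zero] at h7
        exact zero_ne_one h7
      refine kill_t0 h2 (h.conj g) (mem_At_of_smul (c := l⁻¹) ?_ h6)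
      rw [h5, smul_smul, inv_mul_cancel₀ hl, one_smul]
      rfl
    · have h6 : cS g s ∈ At (cA g A) := mem_cA.2 hs
      obtain ⟨k, hk⟩ := H833.IF.t3_conj h2 (h.conj g) h6 h5
      exact kill_t0 h2 ((h.conj g).conj k) hk
  · obtain ⟨h4, g, hg⟩ := cls_J hss hsq
    subst h4
    refine tJ_not_mem h2 (h.conj g) hsq ?_
    rw [← hg]
    exact mem_cA.2 hs

/-- **PSL four, `q` odd**, for `Fin 4`. -/
theorem psl_four_odd (F : Type) [Field F] [Fintype F] (h2 : (2 : F) ≠ 0) :
    KillE (Matrix.ProjectiveSpecialLinearGroup (Fin 4) F) :=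
  killE_congr (pslR (F := F) (finSumFinEquiv (m := 2) (n := 2))) (killE_odd' h2)

end Cfsg.Agent.H358.IF
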